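import Cfsg.Agent.ThreeTrans.Y332.Iso

/-!
# The chain to `Y332.Iso` with the last component of `IsOfTypeM22` replaced by the class

The proofs are those of the files named in the sections, read for `L22`.
-/

set_option autoImplicit false
set_option maxRecDepth 100000

open Cfsg

universe u

namespace Cfsg.Agent.ThreeTrans.Steps.L22

/-- What is used of `IsOfTypeM22`: the lower part, and `D` is one class. -/
def L22 (X : Type*) [Group X] (D₀ : Set X) : Prop :=
  Subgroup.center X = ⊥ ∧ ∃ d ∈ D₀, ∃ c ∈ D₀, ¬ Commute d c ∧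
    (∃ (F : Type) (_ : Field F) (_ : Fintype F), Fintype.card F = 4 ∧
      Nonempty (↥(Subgroup.closure {y : X | y ∈ D₀ ∧ y ≠ d ∧ Commute d y}) ⧸ Subgroup.center ↥(Subgroup.closure {y : X | y ∈ D₀ ∧ y ≠ d ∧ Commute d y}) ≃* PSU 6 F 2)) ∧
    ∃ c₃ : ZMod 3, c₃ ≠ 0 ∧ IsThreeTranspositionClass (D₀ \ {1})

section
variable {X : Type*} [Group X] [Finite X] {D₀ : Set X}

theorem layerData_of_M22 (hD : IsThreeTranspositionGroup (D₀ \ {1})) (h : L22 X D₀) :
    LayerData (D₀ \ {1}) := by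
  obtain ⟨hZ, d, hd0, c, hc0, hdc, ⟨F, hFld, hFt, hF, ⟨e⟩⟩, c₃, -, hR⟩ := h
  have hd : d ∈ D₀ \ {1} := ⟨hd0, fun hh => hdc (by rw [hh]; exact Commute.one_left c)⟩
  have hc : c ∈ D₀ \ {1} := ⟨hc0, fun hh => hdc (by rw [hh]; exact Commute.one_right d)⟩
  set H := Subgroup.closure {y : X | y ∈ D₀ ∧ y ≠ d ∧ Commute d y}
  have hH : H = Subgroup.closure (dperp (D₀ \ {1}) d) := closure_congr_one (dperp_diff_iff d)
  have hcard : 2 ^ 15 ∣ Nat.card (H ⧸ Subgroup.center H) := by
    rw [Nat.card_congr e.toEquiv]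
    exact two_pow_dvd_psu hF
  have : IsSimpleGroup (H ⧸ Subgroup.center H) :=
    (MulEquiv.isSimpleGroup_congr e).2 (Cfsg.Agent.S0283.result
      (by rw [hF]; norm_num : Fintype.card F = 2 ^ 2) 6 (by norm_num) (by norm_num))
  have hgrp := lowImage_group hD hH
  have hG := good_of_simple (not_isMulCommutative_of_two_pow_dvd hgrp hcard) hgrp
  have hcls := hR
  have hN := noTwins_of_local hD hd hH hcls hG
  exact ⟨⟨hcls, ⟨d, hd, c, hc, fun hh => hdc (hh ▸ Commute.refl d)⟩, hN⟩,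
    fun q hq => noTwins_dperp hD hd hH hcls hG hN hq,
    (hcard.trans (Subgroup.card_quotient_dvd_card _)).trans (Subgroup.card_subgroup_dvd_card _)⟩
end


/-! ### from Cfsg.Agent.ThreeTrans.RigidTypeM -/

section

variable {G K L : Type*} [Group G] [Group K] [Group L] {D S : Set G} {T : Set K} {U : Set L}
  {a b d g : G} {H : Subgroup G}

section

variable [Finite G] (hD : IsThreeTranspositionGroup D) (hd : d ∈ D)
  (hH : H = Subgroup.closure (dperp D d)) (hcls : IsThreeTranspositionClass D)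
  (hG : GoodClass (lowImage H (dperp D d) \ {1})) (hN : NoTwins D)

include hD hd hH hcls hG hN

end

variable {X : Type*} [Group X] [Finite X] {D₀ : Set X}

theorem nice_of_M22 (hD : IsThreeTranspositionGroup (D₀ \ {1})) (h : L22 X D₀) :
    Nice (D₀ \ {1}) ∧ ∀ t ∈ D₀ \ {1}, Odd (dperp (D₀ \ {1}) t).ncard := by
  obtain ⟨⟨hcls, -, hN⟩, -, -⟩ := layerData_of_M22 hD h
  obtain ⟨-, d, hd0, c, -, hdc, ⟨F, hFld, hFt, hF, ⟨e⟩⟩, -, -, -⟩ := h
  have hd : d ∈ D₀ \ {1} := ⟨hd0, fun hh => hdc (by rw [hh]; exact Commute.one_left c)⟩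
  set H := Subgroup.closure {y : X | y ∈ D₀ ∧ y ≠ d ∧ Commute d y}
  have hH : H = Subgroup.closure (dperp (D₀ \ {1}) d) := closure_congr_one (dperp_diff_iff d)
  have hcard : 2 ^ 15 ∣ Nat.card (H ⧸ Subgroup.center H) := by
    rw [Nat.card_congr e.toEquiv]
    exact two_pow_dvd_psu hF
  have : IsSimpleGroup (H ⧸ Subgroup.center H) :=
    (MulEquiv.isSimpleGroup_congr e).2 (Cfsg.Agent.S0283.result
      (by rw [hF]; norm_num : Fintype.card F = 2 ^ 2) 6 (by norm_num) (by norm_num))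
  have hgrp := lowImage_group hD hH
  have hG := good_of_simple (not_isMulCommutative_of_two_pow_dvd hgrp hcard) hgrp
  obtain ⟨q, hq, -⟩ := hG.2.1
  obtain ⟨hU, hlines, hodd⟩ := psu_class hF e hgrp ⟨q, hq⟩
  have hS := closedSet_of_group hD
  have hloc := fun t (ht : t ∈ D₀ \ {1}) => nice_layer hD hd hH hcls hG hN hU ht
  have hrich := rich_of_layer hD hd hH hcls hG hN
  refine ⟨nice_of_layers hS (sep_of_class hcls hN) hrich (diam_of_lines hS hrich fun t ht => ?_) hloc,
    fun t ht => ?_⟩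
  · obtain ⟨φ, hφ⟩ := exists_layer_iso hD hd hH hcls hG hN ht
    exact hφ.lines hlines
  · obtain ⟨φ, hφ⟩ := exists_layer_iso hD hd hH hcls hG hN ht
    rwa [hφ.ncard_eq]

section

variable [Finite G]

end

end

/-! ### from Cfsg.Agent.ThreeTrans.TypeM22 -/

section

theorem m22Data_diff {X : Type*} [Group X] [Finite X] {D₀ : Set X}
    (hD : IsThreeTranspositionGroup (D₀ \ {1})) (h : L22 X D₀) : M22Data (D₀ \ {1}) := by
  obtain ⟨⟨hcls, -, hN⟩, -, -⟩ := layerData_of_M22 hD h
  have hnice := (nice_of_M22 hD h).1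
  obtain ⟨-, d, hd0, c, -, hdc, ⟨F, hFld, hFt, hF, ⟨e⟩⟩, -, -, -⟩ := h
  have hd : d ∈ D₀ \ {1} := ⟨hd0, fun hh => hdc (by rw [hh]; exact Commute.one_left c)⟩
  set H := Subgroup.closure {y : X | y ∈ D₀ ∧ y ≠ d ∧ Commute d y}
  have hH : H = Subgroup.closure (dperp (D₀ \ {1}) d) := closure_congr_one (dperp_diff_iff d)
  have hcard : 2 ^ 15 ∣ Nat.card (H ⧸ Subgroup.center H) := by
    rw [Nat.card_congr e.toEquiv]
    exact two_pow_dvd_psu hF
  have : IsSimpleGroup (H ⧸ Subgroup.center H) :=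
    (MulEquiv.isSimpleGroup_congr e).2 (Cfsg.Agent.S0283.result
      (by rw [hF]; norm_num : Fintype.card F = 2 ^ 2) 6 (by norm_num) (by norm_num))
  have hgrp := lowImage_group hD hH
  have hG := good_of_simple (not_isMulCommutative_of_two_pow_dvd hgrp hcard) hgrp
  obtain ⟨q, hq, -⟩ := hG.2.1
  obtain ⟨θ, tp, hB, hM⟩ := psu_model hF e hgrp ⟨q, hq⟩
  have hF4 : Nat.card F = 4 := by rw [Nat.card_eq_fintype_card, hF]
  have hS := closedSet_of_group hD
  have hlayer : ∀ t ∈ D₀ \ {1}, Nice (dperp (D₀ \ {1}) t) ∧ Lines (dperp (D₀ \ {1}) t) ∧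
      LineProd (dperp (D₀ \ {1}) t) ∧ Trace (dperp (D₀ \ {1}) t) := fun t ht => by
    obtain ⟨φ, hφ⟩ := exists_layer_iso hD hd hH hcls hG hN ht
    exact ⟨hφ.nice (hS.dperp t) (UModel.nice hB hM), hφ.lines (UModel.lines hB hM hF4),
      hφ.lineProd (hS.dperp t) (UModel.line_prod hB hM hF4), hφ.trace (UModel.trace hB hM)⟩
  exact ⟨hN, hnice, fun t ht => (hlayer t ht).1, fun t ht => (hlayer t ht).2.1,
    fun t ht => (hlayer t ht).2.2.1, fun t ht => (hlayer t ht).2.2.2⟩

variable {G : Type*} [Group G] {D : Set G}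

end

/-! ### from Cfsg.Agent.ThreeTrans.PlaneIso -/

section

variable {G K : Type*} [Group G] [Group K] {S : Set G} {T : Set K} {φ : G → K} {p q r : G}

theorem planes_layer {X : Type*} [Group X] [Finite X] {D₀ : Set X}
    (hD : IsThreeTranspositionGroup (D₀ \ {1})) (h : L22 X D₀) :
    ∀ t ∈ D₀ \ {1}, Planes (dperp (D₀ \ {1}) t) := by
  obtain ⟨⟨hcls, -, hN⟩, -, -⟩ := layerData_of_M22 hD h
  obtain ⟨-, d, hd0, c, -, hdc, ⟨F, hFld, hFt, hF, ⟨e⟩⟩, -, -, -⟩ := h
  have hd : d ∈ D₀ \ {1} := ⟨hd0, fun hh => hdc (by rw [hh]; exact Commute.one_left c)⟩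
  set H := Subgroup.closure {y : X | y ∈ D₀ ∧ y ≠ d ∧ Commute d y}
  have hH : H = Subgroup.closure (dperp (D₀ \ {1}) d) := closure_congr_one (dperp_diff_iff d)
  have hcard : 2 ^ 15 ∣ Nat.card (H ⧸ Subgroup.center H) := by
    rw [Nat.card_congr e.toEquiv]
    exact two_pow_dvd_psu hF
  have : IsSimpleGroup (H ⧸ Subgroup.center H) :=
    (MulEquiv.isSimpleGroup_congr e).2 (Cfsg.Agent.S0283.result
      (by rw [hF]; norm_num : Fintype.card F = 2 ^ 2) 6 (by norm_num) (by norm_num))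
  have hgrp := lowImage_group hD hH
  have hG := good_of_simple (not_isMulCommutative_of_two_pow_dvd hgrp hcard) hgrp
  obtain ⟨q, hq, -⟩ := hG.2.1
  obtain ⟨θ, tp, hB, hM⟩ := psu_model hF e hgrp ⟨q, hq⟩
  intro t ht
  obtain ⟨φ, hφ⟩ := exists_layer_iso hD hd hH hcls hG hN ht
  exact hφ.planes (UModel.planes hB hM (by rw [Nat.card_eq_fintype_card, hF]))

end

/-! ### from Cfsg.Agent.ThreeTrans.CentralizerMember -/

section

variable {G K : Type*} [Group G] [Group K] {S : Set G} {T : Set K} {D : Set G}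

theorem m22Full_diff {X : Type*} [Group X] [Finite X] {D₀ : Set X}
    (hD : IsThreeTranspositionGroup (D₀ \ {1})) (h : L22 X D₀)
    (hZ : Subgroup.center X = ⊥) : M22Full (D₀ \ {1}) := by
  have hdata := m22Data_diff hD h
  have hplanes := planes_layer hD h
  obtain ⟨⟨hcls, -, hN⟩, -, -⟩ := layerData_of_M22 hD h
  obtain ⟨-, d, hd0, c, -, hdc, ⟨F, hFld, hFt, hF, ⟨e⟩⟩, -, -, -⟩ := h
  have hd : d ∈ D₀ \ {1} := ⟨hd0, fun hh => hdc (by rw [hh]; exact Commute.one_left c)⟩
  set H := Subgroup.closure {y : X | y ∈ D₀ ∧ y ≠ d ∧ Commute d y}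
  have hH : H = Subgroup.closure (dperp (D₀ \ {1}) d) := closure_congr_one (dperp_diff_iff d)
  have hcard : 2 ^ 15 ∣ Nat.card (H ⧸ Subgroup.center H) := by
    rw [Nat.card_congr e.toEquiv]
    exact two_pow_dvd_psu hF
  have : IsSimpleGroup (H ⧸ Subgroup.center H) :=
    (MulEquiv.isSimpleGroup_congr e).2 (Cfsg.Agent.S0283.result
      (by rw [hF]; norm_num : Fintype.card F = 2 ^ 2) 6 (by norm_num) (by norm_num))
  have hgrp := lowImage_group hD hH
  have hG := good_of_simple (not_isMulCommutative_of_two_pow_dvd hgrp hcard) hgrp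
  obtain ⟨q, hq, -⟩ := hG.2.1
  obtain ⟨θ, hB, π, hsurj, hker, hpeq, hM⟩ := psu_hom hF e hgrp ⟨q, hq⟩
  have hS := closedSet_of_group hD
  set D := D₀ \ {1} with hDdef
  have hlinks : ∀ t ∈ D, Links (dperp D t) := fun t ht => by
    obtain ⟨φ, hφ⟩ := exists_layer_iso hD hd hH hcls hG hN ht
    exact hφ.links (hS.dperp t) (UModel.links hB hM (by rw [Nat.card_eq_fintype_card, hF]))
  -- the base layer
  have hbase : ∀ u ∈ dperp D d, ∀ k ∈ H, Commute k u → k ∈ memGroup D u := by
    intro u hu k hk hku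
    set uH : H := ⟨u, mem_H hH hu⟩
    set kH : H := ⟨k, hk⟩
    have hne := mk_ne_one hD hd hH hcls hG hN (u := uH) hu
    have hmem := UModel.mem_closure_of_commute hB π hsurj hker hpeq hM
      (p := (uH : H ⧸ Subgroup.center H)) (x := (kH : H ⧸ Subgroup.center H)) ⟨⟨uH, hu, rfl⟩, hne⟩
      ((show Commute kH uH from Subtype.ext hku.eq).map (QuotientGroup.mk' _))
    set A : Subgroup H := Subgroup.closure {x : H | (x : X) ∈ dperp D d ∧ Commute u (x : X)}
    have hle : Subgroup.closure {q : H ⧸ Subgroup.center H | q ∈ lowImage H (dperp D d) \ {1} ∧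
        Commute (uH : H ⧸ Subgroup.center H) q} ≤ A.map (QuotientGroup.mk' _) := by
      refine (Subgroup.closure_le _).2 ?_
      rintro - ⟨⟨⟨x, hx, rfl⟩, -⟩, hux⟩
      exact ⟨x, Subgroup.subset_closure ⟨hx, reflect hD hH (u := uH) hu hx hux⟩, rfl⟩
    obtain ⟨y, hy, hyk⟩ := hle hmem
    have hz : y⁻¹ * kH ∈ Subgroup.center H := QuotientGroup.eq.1 hyk
    have hA : A.map H.subtype ≤ memGroup D u := by
      rw [MonoidHom.map_closure, Subgroup.closure_le]
      rintro - ⟨x, ⟨hx, hux⟩, rfl⟩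
      exact Subgroup.subset_closure ⟨hx.1, hux⟩
    have hz' : (↑(y⁻¹ * kH) : X) ∈ memGroup D u := by
      rcases eq_one_or_eq_of_centralises hD hZ hdata hlinks hd
        (commute_of_mem_H hH (y⁻¹ * kH).2).symm (fun x hx =>
          (congrArg Subtype.val (Subgroup.mem_center_iff.1 hz ⟨x, mem_H hH hx⟩)).symm) with h | h
      · rw [h]; exact one_mem _
      · rw [h]; exact Subgroup.subset_closure ⟨hd, hu.2.2.symm⟩
    have := mul_mem (hA ⟨y, hy, rfl⟩) hz'
    simpa [kH] using this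
  refine ⟨hdata, hplanes, hlinks, fun a ha u hu k hk hku => ?_⟩
  obtain ⟨g, hg⟩ := class_isConj hcls ha hd
  have hk' : g * k * g⁻¹ ∈ H := by
    rw [hH]
    suffices (Subgroup.closure (dperp D a)).map (MulAut.conj g).toMonoidHom ≤
        Subgroup.closure (dperp D d) from this ⟨k, hk, rfl⟩
    rw [MonoidHom.map_closure, Subgroup.closure_le]
    rintro - ⟨x, hx, rfl⟩
    exact Subgroup.subset_closure (hg ▸ dperp_conj hD.2.1 g hx)
  have := hbase (g * u * g⁻¹) (hg ▸ dperp_conj hD.2.1 g hu) _ hk' ((commute_conj g k u).2 hku)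
  have h2 := memGroup_conj hD.2.1 (g := g⁻¹) this
  simpa [mul_assoc] using h2

theorem m22Full [Finite G] (hD : IsThreeTranspositionGroup D) (h : L22 G D) : M22Full D := by
  have e : D \ {1} = D := Set.sdiff_singleton_eq_self fun h1 => ne_one hD.1 h1 rfl
  have := m22Full_diff (D₀ := D) (by rwa [e]) h h.1
  rwa [e] at this

section

variable (hD : IsThreeTranspositionGroup D) (hF : Transport D)

include hD hF

end

end

/-! ### from Cfsg.Agent.ThreeTrans.CountM22 -/

section

open Cfsg Cfsg.Agent.Classical Cfsg.Agent.Classical.Herm Module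

section
open UModel

variable {F V : Type*} [Field F] [AddCommGroup V] [Module F V] {θ : F →+* F}
  {B : V →ₛₗ[θ] V →ₗ[F] F} (hB : Space B) {K : Type*} [Group K] {E : Set K} {tp : Pt B → K}
  (hM : Model B E tp)

include hB hM

end

variable {G : Type*} [Group G] {D : Set G}

section

variable (hD : IsThreeTranspositionGroup D) (hF : M22Full D)

include hD hF

end

/-- The numbers of members in the layers and the order of the centraliser of a member. -/
theorem counts_diff {X : Type*} [Group X] [Finite X] {D₀ : Set X}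
    (hD : IsThreeTranspositionGroup (D₀ \ {1})) (h : L22 X D₀)
    (hZ : Subgroup.center X = ⊥) : ∀ a ∈ D₀ \ {1}, (dperp (D₀ \ {1}) a).ncard = 693 ∧
      (∀ b ∈ dperp (D₀ \ {1}) a, (dperp (dperp (D₀ \ {1}) a) b).ncard = 180) ∧
      Nat.card ↥(Subgroup.centralizer ({a} : Set X)) = 18393661440 := by
  have hfull := m22Full_diff hD h hZ
  obtain ⟨⟨hcls, -, hN⟩, -, -⟩ := layerData_of_M22 hD h
  obtain ⟨-, d, hd0, c, -, hdc, ⟨F, hFld, hFt, hF, ⟨e⟩⟩, -, -, -⟩ := h
  have hd : d ∈ D₀ \ {1} := ⟨hd0, fun hh => hdc (by rw [hh]; exact Commute.one_left c)⟩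
  set H := Subgroup.closure {y : X | y ∈ D₀ ∧ y ≠ d ∧ Commute d y}
  have hH : H = Subgroup.closure (dperp (D₀ \ {1}) d) := closure_congr_one (dperp_diff_iff d)
  have hcard : 2 ^ 15 ∣ Nat.card (H ⧸ Subgroup.center H) := by
    rw [Nat.card_congr e.toEquiv]
    exact two_pow_dvd_psu hF
  have : IsSimpleGroup (H ⧸ Subgroup.center H) :=
    (MulEquiv.isSimpleGroup_congr e).2 (Cfsg.Agent.S0283.result
      (by rw [hF]; norm_num : Fintype.card F = 2 ^ 2) 6 (by norm_num) (by norm_num))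
  have hgrp := lowImage_group hD hH
  have hG := good_of_simple (not_isMulCommutative_of_two_pow_dvd hgrp hcard) hgrp
  obtain ⟨q, hq, -⟩ := hG.2.1
  obtain ⟨θ, tp, hB, hM⟩ := psu_model hF e hgrp ⟨q, hq⟩
  obtain ⟨hnum, hnum'⟩ := card_model hF hB hM
  set D := D₀ \ {1} with hDdef
  have hdH : d ∈ H := hH ▸ self_mem_closure_dperp hD hfull hZ hd
  have hZH : Nat.card (Subgroup.center H) = 2 := by
    have heq : (Subgroup.center H).map H.subtype = Subgroup.zpowers d := by
      refine le_antisymm ?_ ?_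
      · rintro - ⟨z, hz, rfl⟩
        rcases eq_one_or_eq_of_centralises hD hZ hfull.data hfull.links hd
          (commute_of_mem_H hH z.2).symm (fun x hx =>
            (congrArg Subtype.val (Subgroup.mem_center_iff.1 hz ⟨x, mem_H hH hx⟩)).symm) with h | h
        · rw [Subgroup.coe_subtype, h]; exact one_mem _
        · rw [Subgroup.coe_subtype, h]; exact Subgroup.mem_zpowers d
      · rw [Subgroup.zpowers_le]
        exact ⟨⟨d, hdH⟩, Subgroup.mem_center_iff.2 fun y =>
          Subtype.ext (commute_of_mem_H hH y.2).symm.eq, rfl⟩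
    rw [← Subgroup.card_map_of_injective H.subtype_injective, heq, Nat.card_zpowers, hD.1.1 d hd]
  have hHc : Nat.card H = 18393661440 := by
    rw [Subgroup.card_eq_card_quotient_mul_card_subgroup (Subgroup.center H), hZH,
      Nat.card_congr e.toEquiv, card_psu_six hF]
  intro a ha
  obtain ⟨φ, hφ⟩ := exists_layer_iso hD hd hH hcls hG hN ha
  refine ⟨hφ.ncard_eq.trans hnum, fun b hb => (hφ.restrict hb).ncard_eq.trans (hnum' _ (hφ.bij.mapsTo hb)),
    ?_⟩
  obtain ⟨g, hg⟩ := class_isConj hcls hd ha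
  have hca : Subgroup.centralizer ({a} : Set X) =
      (Subgroup.centralizer ({d} : Set X)).map (MulAut.conj g).toMonoidHom := by
    apply le_antisymm
    · intro y hy
      refine ⟨g⁻¹ * y * g, Subgroup.mem_centralizer_singleton_iff.2 ?_, by simp [mul_assoc]⟩
      have := Subgroup.mem_centralizer_singleton_iff.1 hy
      rw [← hg] at this
      calc g⁻¹ * y * g * d = g⁻¹ * (y * (g * d * g⁻¹)) * g := by group
        _ = d * (g⁻¹ * y * g) := by rw [this]; group
    · rintro - ⟨y, hy, rfl⟩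
      refine Subgroup.mem_centralizer_singleton_iff.2 ?_
      show g * y * g⁻¹ * a = a * (g * y * g⁻¹)
      rw [← hg]
      exact ((commute_conj g y d).2 (Subgroup.mem_centralizer_singleton_iff.1 hy)).eq
  rw [hca, Subgroup.card_map_of_injective (MulAut.conj g).injective,
    centralizer_eq_closure hD hfull hZ hd, ← hH, hHc]

theorem counts [Finite G] (hD : IsThreeTranspositionGroup D) (h : L22 G D) :
    ∀ a ∈ D, (dperp D a).ncard = 693 ∧ (∀ b ∈ dperp D a, (dperp (dperp D a) b).ncard = 180) ∧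
      Nat.card ↥(Subgroup.centralizer ({a} : Set G)) = 18393661440 := by
  have e : D \ {1} = D := Set.sdiff_singleton_eq_self fun h1 => ne_one hD.1 h1 rfl
  have := counts_diff (D₀ := D) (by rwa [e]) h h.1
  rwa [e] at this

end

/-! ### from Cfsg.Agent.ThreeTrans.UnitaryArc -/

section

open Cfsg Cfsg.Agent.Classical Cfsg.Agent.Classical.Herm Module

variable {G K : Type*} [Group G] [Group K] {S : Set G} {T : Set K} {φ : G → K}

section
open UModel

variable {F V : Type*} [Field F] [AddCommGroup V] [Module F V] {θ : F →+* F}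
  {B : V →ₛₗ[θ] V →ₗ[F] F} (hB : Space B) {E : Set K} {tp : Pt B → K} (hM : Model B E tp)

include hB hM

end

theorem arcs_layer {X : Type*} [Group X] [Finite X] {D₀ : Set X}
    (hD : IsThreeTranspositionGroup (D₀ \ {1})) (h : L22 X D₀) :
    ∀ t ∈ D₀ \ {1}, Arcs (dperp (D₀ \ {1}) t) := by
  obtain ⟨⟨hcls, -, hN⟩, -, -⟩ := layerData_of_M22 hD h
  obtain ⟨-, d, hd0, c, -, hdc, ⟨F, hFld, hFt, hF, ⟨e⟩⟩, -, -, -⟩ := h
  have hd : d ∈ D₀ \ {1} := ⟨hd0, fun hh => hdc (by rw [hh]; exact Commute.one_left c)⟩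
  set H := Subgroup.closure {y : X | y ∈ D₀ ∧ y ≠ d ∧ Commute d y}
  have hH : H = Subgroup.closure (dperp (D₀ \ {1}) d) := closure_congr_one (dperp_diff_iff d)
  have hcard : 2 ^ 15 ∣ Nat.card (H ⧸ Subgroup.center H) := by
    rw [Nat.card_congr e.toEquiv]
    exact two_pow_dvd_psu hF
  have : IsSimpleGroup (H ⧸ Subgroup.center H) :=
    (MulEquiv.isSimpleGroup_congr e).2 (Cfsg.Agent.S0283.result
      (by rw [hF]; norm_num : Fintype.card F = 2 ^ 2) 6 (by norm_num) (by norm_num))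
  have hgrp := lowImage_group hD hH
  have hG := good_of_simple (not_isMulCommutative_of_two_pow_dvd hgrp hcard) hgrp
  obtain ⟨q, hq, -⟩ := hG.2.1
  obtain ⟨θ, tp, hB, hM⟩ := psu_model hF e hgrp ⟨q, hq⟩
  intro t ht
  obtain ⟨φ, hφ⟩ := exists_layer_iso hD hd hH hcls hG hN ht
  exact hφ.arcs ((closedSet_of_group hD).dperp t)
    (UModel.arcs hB hM (by rw [Nat.card_eq_fintype_card, hF]))

/-- The layers of a set of type M(22) have arcs. -/
theorem arcs_of_M22 [Finite G] {D : Set G} (hD : IsThreeTranspositionGroup D)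
    (h : L22 G D) : ∀ t ∈ D, Arcs (dperp D t) := by
  have e : D \ {1} = D := Set.sdiff_singleton_eq_self fun h1 => ne_one hD.1 h1 rfl
  have := arcs_layer (D₀ := D) (by rwa [e]) h
  rwa [e] at this

end

/-! ### from Cfsg.Agent.ThreeTrans.PairM23 -/

section

open scoped commutatorElement

variable {G : Type*} [Group G] {D : Set G}

/-- In type M(22) the centraliser of a member maps onto PSU(6, 2) with that member as kernel. -/
theorem m22_quotient {X : Type*} [Group X] [Finite X] {D₀ : Set X}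
    (hD : IsThreeTranspositionGroup (D₀ \ {1})) (h : L22 X D₀) :
    ∃ (F : Type) (_ : Field F) (_ : Fintype F), Fintype.card F = 4 ∧ ∀ b ∈ D₀ \ {1},
      ∃ χ : ↥(Subgroup.centralizer ({b} : Set X)) →* PSU 6 F 2, Function.Surjective χ ∧
        ∀ x, χ x = 1 ↔ ((x : X) = 1 ∨ (x : X) = b) := by
  have hfull := m22Full_diff hD h h.1
  obtain ⟨⟨hcls, -, -⟩, -, -⟩ := layerData_of_M22 hD h
  obtain ⟨hZ, d, hd0, c, -, hdc, ⟨F, hFld, hFt, hF, ⟨e⟩⟩, -⟩ := h
  have hd : d ∈ D₀ \ {1} := ⟨hd0, fun hh => hdc (by rw [hh]; exact Commute.one_left c)⟩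
  set H := Subgroup.closure {y : X | y ∈ D₀ ∧ y ≠ d ∧ Commute d y}
  have hH : H = Subgroup.closure (dperp (D₀ \ {1}) d) := closure_congr_one (dperp_diff_iff d)
  have hcen : Subgroup.centralizer ({d} : Set X) = H :=
    hH ▸ centralizer_eq_closure hD hfull hZ hd
  have hker : ∀ y : H, y ∈ Subgroup.center H ↔ ((y : X) = 1 ∨ (y : X) = d) := by
    intro y
    constructor
    · intro hy
      exact eq_one_or_eq_of_centralises hD hZ hfull.data hfull.links hd
        (commute_of_mem_H hH y.2).symm fun x hx =>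
          (congrArg Subtype.val (Subgroup.mem_center_iff.1 hy ⟨x, mem_H hH hx⟩)).symm
    · rintro (hy | hy) <;> refine Subgroup.mem_center_iff.2 fun g => Subtype.ext ?_ <;>
        rw [Subgroup.coe_mul, Subgroup.coe_mul, hy]
      · rw [one_mul, mul_one]
      · exact (commute_of_mem_H hH g.2).eq.symm
  refine ⟨F, hFld, hFt, hF, fun b hb => ?_⟩
  obtain ⟨g, hg⟩ := class_isConj hcls hd hb
  subst hg
  have hmem : ∀ {x : X}, x ∈ Subgroup.centralizer ({g * d * g⁻¹} : Set X) ↔ g⁻¹ * x * g ∈ H := by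
    intro x
    rw [← hcen, Subgroup.mem_centralizer_singleton_iff, Subgroup.mem_centralizer_singleton_iff]
    refine Iff.trans ?_ (commute_conj g (g⁻¹ * x * g) d)
    rw [show g * (g⁻¹ * x * g) * g⁻¹ = x by group]
    exact Iff.rfl
  let ε : ↥(Subgroup.centralizer ({g * d * g⁻¹} : Set X)) →* H :=
    MonoidHom.mk' (fun x => ⟨g⁻¹ * x * g, hmem.1 x.2⟩) fun x y => Subtype.ext
      (show g⁻¹ * ((x : X) * y) * g = g⁻¹ * (x : X) * g * (g⁻¹ * (y : X) * g) by group)
  have hε : Function.Surjective ε := fun y => ⟨⟨g * y * g⁻¹, hmem.2 (by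
    rw [show g⁻¹ * (g * (y : X) * g⁻¹) * g = y by group]; exact y.2)⟩,
      Subtype.ext (show g⁻¹ * (g * (y : X) * g⁻¹) * g = y by group)⟩
  refine ⟨e.toMonoidHom.comp ((QuotientGroup.mk' _).comp ε),
    e.surjective.comp ((QuotientGroup.mk'_surjective _).comp hε), fun x => ?_⟩
  rw [MonoidHom.comp_apply, MulEquiv.coe_toMonoidHom, EmbeddingLike.map_eq_one_iff,
    MonoidHom.comp_apply, QuotientGroup.mk'_apply, QuotientGroup.eq_one_iff, hker]
  change g⁻¹ * (x : X) * g = 1 ∨ g⁻¹ * (x : X) * g = d ↔ _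
  constructor
  · rintro (h1 | h1) <;>
      rw [show (x : X) = g * (g⁻¹ * (x : X) * g) * g⁻¹ by group, h1]
    · exact Or.inl (by group)
    · exact Or.inr rfl
  · rintro (h1 | h1) <;> rw [h1]
    · exact Or.inl (by group)
    · exact Or.inr (by group)

end

/-! ### from Cfsg.Agent.ThreeTrans.UnitaryCounts -/

section

open Cfsg Cfsg.Agent.Classical Cfsg.Agent.Classical.Herm Module

section
open UModel

variable {F V : Type*} [Field F] [AddCommGroup V] [Module F V] {θ : F →+* F}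
  {B : V →ₛₗ[θ] V →ₗ[F] F} (hB : Space B)

include hB

variable {K : Type*} [Group K] {E : Set K} {tp : Pt B → K} (hM : Model B E tp)

include hM

end

variable {G K : Type*} [Group G] [Group K] {S : Set G} {T : Set K} {φ : G → K}

theorem layer_counts_diff {X : Type*} [Group X] [Finite X] {D₀ : Set X}
    (hD : IsThreeTranspositionGroup (D₀ \ {1})) (h : L22 X D₀) :
    ∀ t ∈ D₀ \ {1}, LayerCounts (dperp (D₀ \ {1}) t) := by
  obtain ⟨⟨hcls, -, hN⟩, -, -⟩ := layerData_of_M22 hD h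
  obtain ⟨-, d, hd0, c, -, hdc, ⟨F, hFld, hFt, hF, ⟨e⟩⟩, -, -, -⟩ := h
  have hd : d ∈ D₀ \ {1} := ⟨hd0, fun hh => hdc (by rw [hh]; exact Commute.one_left c)⟩
  set H := Subgroup.closure {y : X | y ∈ D₀ ∧ y ≠ d ∧ Commute d y}
  have hH : H = Subgroup.closure (dperp (D₀ \ {1}) d) := closure_congr_one (dperp_diff_iff d)
  have hcard : 2 ^ 15 ∣ Nat.card (H ⧸ Subgroup.center H) := by
    rw [Nat.card_congr e.toEquiv]
    exact two_pow_dvd_psu hF
  have : IsSimpleGroup (H ⧸ Subgroup.center H) :=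
    (MulEquiv.isSimpleGroup_congr e).2 (Cfsg.Agent.S0283.result
      (by rw [hF]; norm_num : Fintype.card F = 2 ^ 2) 6 (by norm_num) (by norm_num))
  have hgrp := lowImage_group hD hH
  have hG := good_of_simple (not_isMulCommutative_of_two_pow_dvd hgrp hcard) hgrp
  obtain ⟨q, hq, -⟩ := hG.2.1
  obtain ⟨θ, tp, hB, hM⟩ := psu_model hF e hgrp ⟨q, hq⟩
  intro t ht
  obtain ⟨φ, hφ⟩ := exists_layer_iso hD hd hH hcls hG hN ht
  exact hφ.layerCounts ((closedSet_of_group hD).dperp t)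
    (UModel.layer_counts hB hM (by rw [Nat.card_eq_fintype_card, hF]))

theorem layer_counts_M22 [Finite G] {D : Set G} (hD : IsThreeTranspositionGroup D)
    (h : L22 G D) : ∀ t ∈ D, LayerCounts (dperp D t) := by
  have e : D \ {1} = D := Set.sdiff_singleton_eq_self fun h1 => ne_one hD.1 h1 rfl
  have := layer_counts_diff (D₀ := D) (by rwa [e]) h
  rwa [e] at this

end

/-! ### from Cfsg.Agent.ThreeTrans.SimpleM22 -/

section

variable {G : Type*} [Group G] {D : Set G}

section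

variable [Finite G] (hD : IsThreeTranspositionGroup D) (h22 : L22 G D)

include hD h22

/-- A frame in the layer of `d` times `d` is a product of three members of the layer. -/
theorem frame_shift {d : G} (hd : d ∈ D) {a b x : G} (ha₀ : a ∈ dperp D d)
    (hb₀ : b ∈ dperp (dperp D d) a) (hx₀ : x ∈ dperp D d) (hxa : Commute x a) (hxb : Commute x b)
    (hxl : x ∉ ln (dperp D d) a b) : ∃ p q r : G, p ∈ dperp D d ∧ q ∈ dperp D d ∧ r ∈ dperp D d ∧
      Factor D 3 (a * b * x * d) [p, q, r] := by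
  have hT := hD.1
  have hF := m22Full hD h22
  have hZ := h22.1
  obtain ⟨T, T', hl, hl', hnd, hmem, hcomm, hfix⟩ :=
    (layer_counts_M22 hD h22 d hd).ovals a ha₀ b hb₀ x hx₀ hxa hxb hxl
  obtain ⟨p₁, p₂, p₃, rfl⟩ := List.length_eq_three.1 hl
  obtain ⟨q₁, q₂, q₃, rfl⟩ := List.length_eq_three.1 hl'
  simp only [List.cons_append, List.nil_append] at hnd hmem hcomm
  have hone : ∀ l : List G, (∀ p ∈ l, p ∈ dperp D d) → (∀ w ∈ dperp D d, conjList l w = w) →
      l.prod = 1 ∨ l.prod = d := fun l hl hw => by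
    refine eq_one_or_eq_of_centralises hD hZ hF.data hF.links hd
      ((Commute.list_prod_left l d) fun p hp => (hl p hp).2.2.symm) fun w hw' => ?_
    have := hw w hw'
    rw [conjList_eq_conj hT w (fun p hp => (hl p hp).1)] at this
    exact mul_inv_eq_iff_eq_mul.1 this
  have s1 : [a, b, x, p₁, p₂, p₃].Sublist [a, b, x, p₁, p₂, p₃, q₁, q₂, q₃] := List.sublist_append_left _ [q₁, q₂, q₃]
  have s2 : [a, b, x, q₁, q₂, q₃].Sublist [a, b, x, p₁, p₂, p₃, q₁, q₂, q₃] :=
    (List.Sublist.refl [a, b, x]).append (List.sublist_append_right [p₁, p₂, p₃] [q₁, q₂, q₃])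
  have s0 : [a, b, x].Sublist [a, b, x, p₁, p₂, p₃, q₁, q₂, q₃] := List.sublist_append_left _ _
  have t1 : [p₁, p₂, p₃].Sublist [a, b, x, p₁, p₂, p₃, q₁, q₂, q₃] :=
    (List.sublist_append_left [p₁, p₂, p₃] [q₁, q₂, q₃]).trans (List.sublist_append_right [a, b, x] _)
  have t2 : [q₁, q₂, q₃].Sublist [a, b, x, p₁, p₂, p₃, q₁, q₂, q₃] := List.sublist_append_right [a, b, x, p₁, p₂, p₃] _
  have ha := hmem a (by simp)
  have hb := hmem b (by simp)
  have hx := hmem x (by simp)
  have h1 := hone [a, b, x, p₁, p₂, p₃]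
    (fun p hp => hmem p (s1.subset hp)) fun w hw => (hfix w hw).1
  have h2 := hone [a, b, x, q₁, q₂, q₃]
    (fun p hp => hmem p (s2.subset hp)) fun w hw => (hfix w hw).2
  simp only [List.prod_cons, List.prod_nil, mul_one, ← mul_assoc] at h1 h2
  have habx : (a * b * x) * (a * b * x) = 1 := by
    have hc1 : Commute a b := hcomm a (by simp) b (by simp)
    have hc2 : Commute a x := hcomm a (by simp) x (by simp)
    have hc3 : Commute b x := hcomm b (by simp) x (by simp)
    rw [show (a * b * x) * (a * b * x) = a * b * (x * (a * b)) * x by group,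
      ← (hc2.mul_left hc3).eq, ← mul_assoc, hc1.symm.mul_mul_mul_comm, mul_self hT ha.1,
      mul_self hT hb.1, one_mul, one_mul, mul_self hT hx.1]
  rcases h1 with h1 | h1
  swap
  · refine ⟨p₁, p₂, p₃, hmem _ (by simp), hmem _ (by simp), hmem _ (by simp), hnd.sublist t1, rfl,
      fun p hp => (hmem p (t1.subset hp)).1,
      fun p hp q hq => hcomm p (t1.subset hp) q (t1.subset hq), ?_⟩
    calc [p₁, p₂, p₃].prod = (a * b * x) * (a * b * x) * (p₁ * p₂ * p₃) := by
          rw [habx]; simp [mul_assoc]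
      _ = a * b * x * (a * b * x * p₁ * p₂ * p₃) := by group
      _ = a * b * x * d := by rw [h1]
  rcases h2 with h2 | h2
  swap
  · refine ⟨q₁, q₂, q₃, hmem _ (by simp), hmem _ (by simp), hmem _ (by simp), hnd.sublist t2, rfl,
      fun p hp => (hmem p (t2.subset hp)).1,
      fun p hp q hq => hcomm p (t2.subset hp) q (t2.subset hq), ?_⟩
    calc [q₁, q₂, q₃].prod = (a * b * x) * (a * b * x) * (q₁ * q₂ * q₃) := by
          rw [habx]; simp [mul_assoc]
      _ = a * b * x * (a * b * x * q₁ * q₂ * q₃) := by group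
      _ = a * b * x * d := by rw [h2]
  exfalso
  have h₀ : Factor D 3 (a * b * x) [a, b, x] :=
    ⟨hnd.sublist s0, rfl, fun p hp => (hmem p (s0.subset hp)).1,
      fun p hp q hq => hcomm p (s0.subset hp) q (s0.subset hq),
      by simp [mul_assoc]⟩
  have hT1 : p₁ * p₂ * p₃ = a * b * x := by
    calc p₁ * p₂ * p₃ = (a * b * x) * (a * b * x) * (p₁ * p₂ * p₃) := by rw [habx, one_mul]
      _ = (a * b * x) * (a * b * x * p₁ * p₂ * p₃) := by group
      _ = a * b * x := by rw [h1, mul_one]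
  have hT2 : q₁ * q₂ * q₃ = a * b * x := by
    calc q₁ * q₂ * q₃ = (a * b * x) * (a * b * x) * (q₁ * q₂ * q₃) := by rw [habx, one_mul]
      _ = (a * b * x) * (a * b * x * q₁ * q₂ * q₃) := by group
      _ = a * b * x := by rw [h2, mul_one]
  have hF1 : Factor D 3 (a * b * x) [p₁, p₂, p₃] :=
    ⟨hnd.sublist t1, rfl, fun p hp => (hmem p (t1.subset hp)).1,
      fun p hp q hq => hcomm p (t1.subset hp) q (t1.subset hq),
      by rw [← hT1]; simp [mul_assoc]⟩
  have hF2 : Factor D 3 (a * b * x) [q₁, q₂, q₃] :=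
    ⟨hnd.sublist t2, rfl, fun p hp => (hmem p (t2.subset hp)).1,
      fun p hp q hq => hcomm p (t2.subset hp) q (t2.subset hq),
      by rw [← hT2]; simp [mul_assoc]⟩
  obtain ⟨l₂, -, -, hall⟩ := two_factorisations hD hZ hF.data h₀
  rcases hall _ hF1 with k | k
  · have := (k p₁).1 List.mem_cons_self
    simp only [List.mem_cons, List.not_mem_nil, or_false] at this
    rcases this with rfl | rfl | rfl <;> simp at hnd
  rcases hall _ hF2 with k' | k'
  · have := (k' q₁).1 List.mem_cons_self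
    simp only [List.mem_cons, List.not_mem_nil, or_false] at this
    rcases this with rfl | rfl | rfl <;> simp at hnd
  · have := ((k p₁).trans (k' p₁).symm).1 List.mem_cons_self
    simp only [List.mem_cons, List.not_mem_nil, or_false] at this
    rcases this with rfl | rfl | rfl <;> simp at hnd

/-- The centraliser of a member is perfect. -/
theorem centralizer_perfect_M22 {d : G} (hd : d ∈ D) :
    ⁅Subgroup.centralizer ({d} : Set G), Subgroup.centralizer ({d} : Set G)⁆ =
      Subgroup.centralizer ({d} : Set G) := by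
  have hT := hD.1
  have hF := m22Full hD h22
  have hZ := h22.1
  have hcen := centralizer_eq_closure hD hF hZ hd
  rw [hcen]
  set H := Subgroup.closure (dperp D d)
  refine le_antisymm (Subgroup.commutator_le_self H) ?_
  have hS : ∀ {u}, u ∈ dperp D d → u ∈ H := fun hu => Subgroup.subset_closure hu
  have hev : ∀ {u v}, u ∈ dperp D d → v ∈ dperp D d → u * v ∈ ⁅H, H⁆ := fun {u v} hu hv => by
    obtain ⟨k, hk, rfl⟩ := exists_mv hD hF hd hv hu
    have := Subgroup.commutator_mem_commutator hk (hS hv)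
    rwa [commutatorElement_def, inv_eq hT hv.1] at this
  have hdH : d ∈ ⁅H, H⁆ := by
    obtain ⟨a, ha₀⟩ := hF.data.nice.rich d hd
    obtain ⟨b, hb₀⟩ := (hF.data.layerNice d hd).rich a ha₀
    obtain ⟨x, hx₀, hxa, hxb, hxl⟩ := (hF.planes d hd).ext a ha₀ b hb₀
    obtain ⟨p, q, r, hp, hq, hr, hfac⟩ := frame_shift hD h22 hd ha₀ hb₀ hx₀ hxa hxb hxl
    have hpr := hfac.2.2.2.2
    simp only [List.prod_cons, List.prod_nil, mul_one] at hpr
    have hx2 : x * x = 1 := mul_self hT hx₀.1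
    have e : d = (x * b) * (a * p) * (q * r) := by
      rw [show x * b * (a * p) * (q * r) = x * b * a * (p * (q * r)) by group, hpr]
      simp only [mul_assoc, mul_self_mul hT ha₀.1, mul_self_mul hT hb₀.1.1, mul_self_mul hT hx₀.1]
    rw [e]
    exact mul_mem (mul_mem (hev hx₀ hb₀.1) (hev ha₀ hp)) (hev hq hr)
  refine (Subgroup.closure_le _).2 fun b hb => ?_
  obtain ⟨c, hc⟩ := (hF.data.layerNice d hd).rich b hb
  obtain ⟨x₁, x₂, x₃, hl, -, -, hprod⟩ := exists_second_triple hD hZ hF.data hd hb hc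
  have hm : ∀ {p}, p = x₁ ∨ p = x₂ ∨ p = x₃ → p ∈ dperp D d := fun {p} hp => by
    have : p ∈ ln (dperp D d) b c := by rw [hl]; simp; tauto
    exact this.1
  have he : b = (x₁ * x₂) * (x₃ * c) * d := by
    rw [show x₁ * x₂ * (x₃ * c) = x₁ * x₂ * x₃ * c by group, hprod,
      show d * b * c * c = d * b by rw [mul_assoc _ c, mul_self hT hc.1.1, mul_one],
      hb.2.2.eq, mul_assoc, mul_self hT hd, mul_one]
  rw [SetLike.mem_coe, he]
  exact mul_mem (mul_mem (hev (hm (Or.inl rfl)) (hm (Or.inr (Or.inl rfl))))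
    (hev (hm (Or.inr (Or.inr rfl))) hc.1)) hdH

end

end

/-! ### from Cfsg.Agent.ThreeTrans.InvolM22 -/

section

open Cfsg Cfsg.Agent.Classical Cfsg.Agent.Classical.Herm Module

section
open UModel

variable {F V : Type*} [Field F] [AddCommGroup V] [Module F V] {θ : F →+* F}
  {B : V →ₛₗ[θ] V →ₗ[F] F} (hB : Space B)

include hB

end

variable {G : Type*} [Group G] [Finite G] {D : Set G}

section

variable (hD : IsThreeTranspositionGroup D) (h22 : L22 G D)

include hD h22

/-- Type M(22) is perfect. -/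
theorem perfect_M22 : commutator G = ⊤ := by
  rw [eq_top_iff, ← hD.2.2, Subgroup.closure_le]
  intro d hd
  have hmem : d ∈ Subgroup.centralizer ({d} : Set G) := Subgroup.mem_centralizer_singleton_iff.2 rfl
  rw [← centralizer_perfect_M22 hD h22 hd] at hmem
  exact Subgroup.commutator_mono le_top le_top hmem

end

variable {G : Type*} [Group G] [Finite G] {D : Set G}

end

/-! ### from Cfsg.Agent.ThreeTrans.LayerM22 -/

section

variable {G K : Type*} [Group G] [Group K] {S : Set G} {T : Set K} {φ : G → K}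

/-- Type M(22) is such a layer. -/
theorem m22Layer [Finite G] {D : Set G} (hD : IsThreeTranspositionGroup D) (h22 : L22 G D) :
    M22Layer D := by
  have hF := m22Full hD h22
  have hA : ∀ t ∈ D, Arcs (dperp D t) := arcs_of_M22 hD h22
  have hC := layer_counts_M22 hD h22
  have hc := counts hD h22
  have h693 := fun x hx => (hc x hx).1
  have h180 := fun x hx => (hc x hx).2.1
  obtain ⟨-, d, hd, -⟩ := id h22
  have hw := width_22 hD h22.1 hF hA hC hd
  have hbdd : BddAbove {n : ℕ | ∃ E : Set G, E ⊆ D ∧ E.Finite ∧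
      (∀ a ∈ E, ∀ b ∈ E, Commute a b) ∧ E.ncard = n} := ⟨Nat.card G, by
    rintro n ⟨E, -, -, -, rfl⟩
    exact Set.ncard_le_card _⟩
  refine ⟨ncard_members hD h22.1 hF hA hC h693 h180 hd, h693, h180,
    fun a ha z hz => common_126 hD h22.1 hF hA hC h693 h180 ha hz,
    fun a ha b hb z hz => thirty hD h22.1 hF hA hC ha hb hz,
    fun a ha b hb z hz hza hzb x hx => nbrs_thirteen hD hF hC ha hb hz hza hzb hx,
    hF.data.layerLines, fun a ha p hp q hq => (hC a ha).pair p hp q hq,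
    fun a ha b hb w hw' x hx => mem_ln_swap hD h22.1 hF.data ha hb hw' hx,
    fun E hE hEc => hw ▸ le_csSup hbdd ⟨E, hE, Set.toFinite E, hEc, rfl⟩, ?_⟩
  obtain ⟨E, hE, -, hEc, hE22⟩ := Nat.sSup_mem (s := {n : ℕ | ∃ E : Set G, E ⊆ D ∧ E.Finite ∧
      (∀ a ∈ E, ∀ b ∈ E, Commute a b) ∧ E.ncard = n})
    ⟨0, ∅, Set.empty_subset _, Set.finite_empty, by simp, by simp⟩ hbdd
  exact ⟨E, hE, hEc, hE22.trans hw⟩

end

/-! ### from Cfsg.Agent.ThreeTrans.InvolM23 -/

section

section

variable {X : Type*} [Group X] [Finite X] {E : Set X}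

/-- The order of a group of type M(22). -/
theorem card_M22 (hE : IsThreeTranspositionGroup E) (hcls : IsThreeTranspositionClass E)
    (h22 : L22 X E) : Nat.card X = 3510 * 18393661440 := by
  obtain ⟨-, a, ha, -⟩ := id h22
  rw [← Subgroup.card_top, card_eq_orbit_mul ⊤ a E (fun g _ => hE.2.1 g a ha)
    (fun y hy => (class_isConj hcls ha hy).imp fun g hg => ⟨Subgroup.mem_top g, hg⟩), top_inf_eq,
    (counts hE h22 a ha).2.2, (m22Layer hE h22).card]

/-- A group of type M(22) is simple. -/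
theorem simple_M22 (hE : IsThreeTranspositionGroup E) (hcls : IsThreeTranspositionClass E)
    (h22 : L22 X E) : IsSimpleGroup X := by
  have he : E \ {1} = E := Set.sdiff_singleton_eq_self fun h1 => ne_one hE.1 h1 rfl
  obtain ⟨F, _, _, hF, hq⟩ := m22_quotient (by rwa [he]) h22
  rw [he] at hq
  have : IsSimpleGroup (PSU 6 F 2) := Cfsg.Agent.S0283.result
    (by rw [hF]; norm_num : Fintype.card F = 2 ^ 2) 6 (by norm_num) (by norm_num)
  obtain ⟨-, a, ha, -⟩ := id h22
  have hp := perfect_M22 hE h22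
  refine simple_of_fixed_members hE hcls hp
    (fun t ht => exists_commute_of_perfect hE.2.1 hp (by rw [(m22Layer hE h22).card]) ht)
    (fun d hd => ⟨centralizer_perfect_M22 hE h22 hd, ?_⟩) ⟨a, ha⟩
  obtain ⟨χ, hχ, hker⟩ := hq d hd
  exact ⟨PSU 6 F 2, inferInstance, χ, inferInstance, hχ, hker⟩

end

variable {G : Type u} [Group G] [Finite G] {D : Set G}
  {X : Type u} [Group X] [Finite X] {E : Set X}
  (hD : IsThreeTranspositionGroup D) (hcls : IsThreeTranspositionClass D) (hM : M23Data D)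
  (hE : IsThreeTranspositionGroup E) (hclsE : IsThreeTranspositionClass E) (h22 : L22 X E)
  (hcov : ∀ b ∈ D, Cover23 D E b)

include hD hcls hM hE hclsE h22 hcov

end

/-! ### from Cfsg.Agent.ThreeTrans.PrimeM22 -/

section

variable {G : Type u} [Group G] [Finite G] {D : Set G}

theorem primeData (hD : IsThreeTranspositionGroup D) (hcls : IsThreeTranspositionClass D)
    (h22 : L22 G D) : PrimeData D := by
  classical
  have hF := m22Full hD h22
  have hL := m22Layer hD h22
  have hfix : ∀ {g y : G}, g ∈ Subgroup.centralizer ({y} : Set G) → g * y * g⁻¹ = y := fun hg => by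
    rw [Subgroup.mem_centralizer_singleton_iff.1 hg, mul_inv_cancel_right]
  refine ⟨hL, card_M22 hD hcls h22, fun a ha => (counts hD h22 a ha).2.2, ?_, ?_, ?_⟩
  · intro a ha b hb
    have h := card_eq_orbit_mul (Subgroup.centralizer ({a} : Set G)) b (dperp D a)
      (fun g hg => hfix hg ▸ dperp_conj hD.2.1 g hb)
      fun y hy => by
        obtain ⟨g, hg1, hg2⟩ := exists_conj_pair hD hcls hF ha hb ha hy
        exact ⟨g, Subgroup.mem_centralizer_singleton_iff.2 (mul_inv_eq_iff_eq_mul.1 hg1), hg2⟩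
    rw [(counts hD h22 a ha).2.2, hL.card1 a ha] at h
    omega
  · intro a ha c hc hac
    obtain ⟨hsol, hperf⟩ := sol_perf_of_simple (simple_M22 hD hcls h22) (perfect_M22 hD h22)
    have h := card_eq_orbit_mul (Subgroup.centralizer ({a} : Set G)) c {e | e ∈ D ∧ ¬ Commute a e}
      (fun g hg => ⟨hD.2.1 g c hc, fun e => hac ((commute_conj g a c).1 (by rwa [hfix hg]))⟩)
      fun y hy => by
        obtain ⟨g, hg1, hg2⟩ := exists_commute_conj_not_commute hsol hperf hcls ha hc hy.1 hac hy.2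
        exact ⟨g, Subgroup.mem_centralizer_singleton_iff.2 hg1.eq, hg2⟩
    have hN : {e | e ∈ D ∧ ¬ Commute a e}.ncard = 2816 := by
      have h2 := ncard_nonpartners (D := D) ha
      rw [hL.card1 a ha, hL.card] at h2
      omega
    rw [(counts hD h22 a ha).2.2, hN] at h
    omega
  · intro d hd
    have he : D \ {1} = D := Set.sdiff_singleton_eq_self fun h1 => ne_one hD.1 h1 rfl
    obtain ⟨F, hFld, hFt, hF4, hq⟩ := m22_quotient (D₀ := D) (by rwa [he]) h22
    obtain ⟨χ, hχ, hker⟩ := hq d (by rwa [he])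
    refine ⟨F, hFld, hFt, hF4, χ, χ '' {u | (u : G) ∈ dperp D d}, hχ, hker, ⟨⟨?_, ?_⟩, ?_, ?_⟩, ?_,
      fun q hq => hq, fun u hu => ⟨u, hu, rfl⟩⟩
    · rintro - ⟨u, hu, rfl⟩
      refine orderOf_eq_prime ?_ fun h => ?_
      · rw [← map_pow, show u ^ 2 = 1 from Subtype.ext (by
          rw [SubgroupClass.coe_pow, sq]; exact mul_self hD.1 hu.1), map_one]
      · rcases (hker u).1 h with h | h
        · exact ne_one hD.1 hu.1 h
        · exact hu.2.1 h
    · rintro - ⟨u, hu, rfl⟩ - ⟨v, hv, rfl⟩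
      rcases hD.1.2 _ hu.1 _ hv.1 with h | h <;> [left; right] <;>
        rw [← map_mul, ← map_pow, show (u * v) ^ _ = 1 from Subtype.ext h, map_one]
    · rintro q - ⟨u, hu, rfl⟩
      obtain ⟨g, rfl⟩ := hχ q
      refine ⟨g * u * g⁻¹, ?_, by simp⟩
      have h := dperp_conj hD.2.1 (g : G) hu
      rw [hfix g.2] at h
      exact h
    · have hgen : Subgroup.closure {u : ↥(Subgroup.centralizer ({d} : Set G)) | (u : G) ∈ dperp D d} = ⊤ := by
        refine Subgroup.map_injective (Subgroup.centralizer ({d} : Set G)).subtype_injective ?_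
        rw [MonoidHom.map_closure, ← MonoidHom.range_eq_map, Subgroup.range_subtype]
        conv_rhs => rw [centralizer_eq_closure hD hF h22.1 hd]
        congr 1
        apply Set.ext
        intro u
        constructor
        · rintro ⟨v, hv, rfl⟩; exact hv
        · exact fun hu => ⟨⟨u, Subgroup.mem_centralizer_singleton_iff.2 hu.2.2.symm.eq⟩, hu, rfl⟩
      rw [← MonoidHom.map_closure, hgen, Subgroup.map_top_of_surjective _ hχ]
    · obtain ⟨u, hu⟩ := Set.nonempty_of_ncard_ne_zero (s := dperp D d) (by rw [hL.card1 d hd]; norm_num)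
      exact ⟨_, ⟨u, Subgroup.mem_centralizer_singleton_iff.2 hu.2.2.symm.eq⟩, hu, rfl⟩

variable (hD : IsThreeTranspositionGroup D) (hP : PrimeData D)

include hD hP

end

/-! ### from Cfsg.Agent.ThreeTrans.SixChain.Model -/

section

open Cfsg Cfsg.Agent.Classical Cfsg.Agent.Classical.Herm Module

/-- Every layer in type M(22) has a unitary model. -/
theorem layer_model {G : Type*} [Group G] [Finite G] {D : Set G} (hD : IsThreeTranspositionGroup D)
    (h22 : L22 G D) :
    ∃ (F : Type) (_ : Field F) (θ : F →+* F), Nat.card F = 4 ∧ UModel.Space (hermB 6 θ) ∧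
      ∀ a ∈ D, ∃ tp : UModel.Pt (hermB 6 θ) → G, UModel.Model (hermB 6 θ) (dperp D a) tp := by
  have e1 : D \ {1} = D := Set.sdiff_singleton_eq_self fun h1 => ne_one hD.1 h1 rfl
  obtain ⟨⟨hcls, -, hN⟩, -, -⟩ := layerData_of_M22 (D₀ := D) (by rwa [e1]) h22
  rw [e1] at hcls hN
  obtain ⟨-, d, hd, c, -, hdc, ⟨F, hFld, hFt, hF, ⟨e⟩⟩, -, -, -⟩ := h22
  set H := Subgroup.closure {y : G | y ∈ D ∧ y ≠ d ∧ Commute d y}
  have hH : H = Subgroup.closure (dperp D d) := rfl
  have hcard : 2 ^ 15 ∣ Nat.card (H ⧸ Subgroup.center H) := by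
    rw [Nat.card_congr e.toEquiv]
    exact two_pow_dvd_psu hF
  have : IsSimpleGroup (H ⧸ Subgroup.center H) :=
    (MulEquiv.isSimpleGroup_congr e).2 (Cfsg.Agent.S0283.result
      (by rw [hF]; norm_num : Fintype.card F = 2 ^ 2) 6 (by norm_num) (by norm_num))
  have hgrp := lowImage_group hD hH
  have hG := good_of_simple (not_isMulCommutative_of_two_pow_dvd hgrp hcard) hgrp
  obtain ⟨q, hq, -⟩ := hG.2.1
  obtain ⟨θ, tp, hB, hM⟩ := psu_model hF e hgrp ⟨q, hq⟩
  refine ⟨F, hFld, θ, by rw [Nat.card_eq_fintype_card, hF], hB, fun a ha => ?_⟩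
  obtain ⟨φ, hφ⟩ := exists_layer_iso hD hd hH hcls hG hN ha
  exact hφ.model ((closedSet_of_group hD).dperp a) hM

section
open UModel

variable {F V : Type*} [Field F] [AddCommGroup V] [Module F V] {θ : F →+* F}
  {B : V →ₛₗ[θ] V →ₗ[F] F} (hB : Space B)

include hB

end

end

/-! ### from Cfsg.Agent.ThreeTrans.SixChain.Main -/

section

open Cfsg Cfsg.Agent.Classical Cfsg.Agent.Classical.Herm Module

open SixChain

variable {G : Type u} [Group G] [Finite G] {D : Set G}
  (hD : IsThreeTranspositionGroup D) (h22 : L22 G D)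
  {a b : G} (ha : a ∈ D) (hb : b ∈ D) (hab : ¬ Commute a b)

include hD h22 ha hb hab

omit [Finite G] h22 ha hb in
theorem pairPerp_subset {y : G} (hy : y ∈ pairPerp D a b) : y ∈ dperp D a :=
  ⟨hy.1, fun e => hab (e ▸ hy.2.2.symm), hy.2.1⟩

omit [Finite G] h22 ha hb hab in
theorem pairPerp_conj {x y : G} (hx : x ∈ pairPerp D a b) (hy : y ∈ pairPerp D a b) :
    x * y * x ∈ pairPerp D a b :=
  ⟨conj_mem hD.1 hD.2.1 hx.1 hy.1, (hx.2.1.mul_right hy.2.1).mul_right hx.2.1,
    (hx.2.2.mul_right hy.2.2).mul_right hx.2.2⟩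

theorem ncard_pairPerp : (pairPerp D a b).ncard = 126 := by
  have h : {v | v ∈ dperp D a ∧ Commute b v} = pairPerp D a b :=
    Set.ext fun v => ⟨fun hv => ⟨hv.1.1, hv.1.2.2, hv.2⟩,
      fun hv => ⟨pairPerp_subset hD hab hv, hv.2.2⟩⟩
  rw [← h]
  exact (m22Layer hD h22).common a ha b hb hab

/-- Two common partners on one line with a third are equal. -/
theorem eq_of_line {q y y' : G} (hq : q ∈ pairPerp D a b) (hy : y ∈ pairPerp D a b)
    (hy' : y' ∈ pairPerp D a b) (hqy : Commute q y) (hne : y ≠ q) (hne' : y' ≠ q)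
    (h : y' ∈ ln (dperp D a) q y) : y' = y := by
  by_contra hyy
  have hqa := pairPerp_subset hD hab hq
  have hya := pairPerp_subset hD hab hy
  have hyq : y ∈ dperp (dperp D a) q := ⟨hya, hne, hqy⟩
  have h1 := (m22Layer hD h22).swap a ha q hqa y hyq y' h hne' hyy
  have hay : a ∈ dperp D y := dperp_symm ha hya
  have hqy' : q ∈ dperp (dperp D y) a := ⟨⟨hq.1, hne.symm, hqy.symm⟩, hqa.2.1, hqa.2.2⟩
  obtain ⟨hp, he⟩ := ((m22Full hD h22).data.layerLines y hy.1).pair a hay q hqy' q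
    (mem_ln_right hqy'.1) y' h1 hne'.symm
  have ha' : a ∈ ln (dperp D y) q y' := he.symm ▸ mem_ln_left hay
  exact hab (ha'.2 b ⟨hb, fun e => hab (e ▸ hya.2.2), hy.2.2.symm⟩ hq.2.2 hy'.2.2).symm

/-- The common partners in given coordinates. -/
theorem coded_of {F : Type} [Field F] {θ : F →+* F} {tp : UModel.Pt (hermB 6 θ) → G}
    (hB : UModel.Space (hermB 6 θ)) (hM : UModel.Model (hermB 6 θ) (dperp D a) tp) {k : F}
    {e : Fin 6 → Fin 6 → F} (hFr : Frame (hermB 6 θ) k e) {q : Fin 4 → G}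
    (hq : ∀ i, q i ∈ pairPerp D a b) {u : G} (hu : u ∈ pairPerp D a b) {f : G}
    (hpts : ∀ j : Fin 6, ∃ v : UModel.Pt (hermB 6 θ), v.1 = e j ∧
      tp v = ![q 0, q 1, q 2, q 3, u, f] j) :
    ∃ n : ℕ, n < 64 ∧ (f ∈ pairPerp D a b → n < 16) ∧
      (∀ x ∈ seeds n, Coded (pairPerp D a b) tp k e x) ∧
      ∀ x y, Coded (pairPerp D a b) tp k e x → Coded (pairPerp D a b) tp k e y →
        Coded (pairPerp D a b) tp k e (V6.tr x y) := by
  classical
  choose E hE ht using hpts
  have hrep : ∀ y ∈ dperp D a, ∃ v, tp v = y := fun y hy => UModel.exists_tp hM hy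
  choose pt hpt using hrep
  have hzero : ∀ {y z : G} {v w : UModel.Pt (hermB 6 θ)}, tp v = y → tp w = z →
      (hermB 6 θ v.1 w.1 = 0 ↔ Commute y z) := by
    rintro y z v w rfl rfl
    exact (hM.comm_iff v w).symm
  have hscale : ∀ (v : UModel.Pt (hermB 6 θ)) (c : F) (hc : c ≠ 0),
      ∃ v' : UModel.Pt (hermB 6 θ), v'.1 = c • v.1 ∧ tp v' = tp v := fun v c hc =>
    ⟨⟨c • v.1, smul_ne_zero hc v.2.1, by simp [v.2.2]⟩, rfl, UModel.tp_smul hB hM v _ rfl⟩
  have hall := hFr.all
  have hqa : ∀ i, q i ∈ dperp D a := fun i => pairPerp_subset hD hab (hq i)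
  set E0 := E 0
  set E1 := E 1
  set E2 := E 2
  set E3 := E 3
  set E4 := E 4
  set E5 := E 5
  have t0 : tp E0 = q 0 := ht 0
  have t1 : tp E1 = q 1 := ht 1
  have t2 : tp E2 = q 2 := ht 2
  have t3 : tp E3 = q 3 := ht 3
  have t4 : tp E4 = u := ht 4
  have t5 : tp E5 = f := ht 5
  have n1 : hermB 6 θ E0.1 E1.1 = 1 := by
    show hermB 6 θ (E 0).1 (E 1).1 = 1
    rw [hE, hE, hFr.gram]; rfl
  have hnc : ¬ Commute (q 0) (q 1) := fun h => one_ne_zero (α := F) (n1.symm.trans ((hzero t0 t1).2 h))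
  -- coded points among the common partners
  let Good : V6 → Prop := Coded (pairPerp D a b) tp k e
  have hbase : ∀ (E : UModel.Pt (hermB 6 θ)) (x : V6), E.1 = x.val k e → tp E ∈ pairPerp D a b →
      Good x := fun E x h1 h2 => ⟨E, h1, h2⟩
  have hunit : V6.val k e q1 = E0.1 ∧ V6.val k e q2 = E1.1 ∧ V6.val k e q3 = E2.1 ∧
      V6.val k e q4 = E3.1 ∧ V6.val k e uu = E4.1 := by
    simp [E0, E1, E2, E3, E4, hE, V6.val, q1, q2, q3, q4, uu, Q4.val]
  have g1 : Good q1 := hbase E0 _ hunit.1.symm (t0 ▸ hq 0)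
  have g2 : Good q2 := hbase E1 _ hunit.2.1.symm (t1 ▸ hq 1)
  have g3 : Good q3 := hbase E2 _ hunit.2.2.1.symm (t2 ▸ hq 2)
  have g4 : Good q4 := hbase E3 _ hunit.2.2.2.1.symm (t3 ▸ hq 3)
  have g5 : Good uu := hbase E4 _ hunit.2.2.2.2.symm (t4 ▸ hu)
  have htr : ∀ x y, Good x → Good y → Good (V6.tr x y) := by
    rintro x y ⟨v, hv, hvW⟩ ⟨w, hw, hwW⟩
    have hsum0 : w.1 + hermB 6 θ v.1 w.1 • v.1 ≠ 0 := by
      intro h0
      have h1 := congrArg (hermB 6 θ v.1) h0
      rw [map_add, map_smul, v.2.2, smul_zero, add_zero, map_zero] at h1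
      rw [h1, zero_smul, add_zero] at h0
      exact w.2.1 h0
    have hiso : hermB 6 θ (w.1 + hermB 6 θ v.1 w.1 • v.1) (w.1 + hermB 6 θ v.1 w.1 • v.1) = 0 := by
      have hs : θ (hermB 6 θ v.1 w.1) = hermB 6 θ w.1 v.1 := hB.herm.symm _ _
      simp only [map_add, map_smul, LinearMap.map_smulₛₗ, LinearMap.add_apply, LinearMap.smul_apply,
        smul_eq_mul, v.2.2, w.2.2, hs, mul_zero, zero_add, add_zero]
      rw [mul_comm]
      exact UModel.add_self' hB _
    refine ⟨⟨_, hsum0, hiso⟩, ?_, hM.conj v w ⟨_, hsum0, hiso⟩ rfl ▸ pairPerp_conj hD hvW hwW⟩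
    show w.1 + hermB 6 θ v.1 w.1 • v.1 = _
    rw [V6.tr, V6.val_add hFr, V6.val_smul hFr, ← V6.val_form hFr, ← hv, ← hw]
  -- every residue point lifts
  have hq01 : hermB 6 θ E1.1 E0.1 = 1 := UModel.symm_one hB n1
  have hlift : ∀ X : UModel.Pt (hermB 6 θ), hermB 6 θ E0.1 X.1 = 0 → hermB 6 θ E1.1 X.1 = 0 →
      ∃ (c : F) (v : UModel.Pt (hermB 6 θ)), v.1 = X.1 + c • E0.1 ∧ tp v ∈ pairPerp D a b := by
    set q0 := q 0
    set S := {y | y ∈ dperp D q0 ∧ Commute y a ∧ Commute y b} with hS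
    have hS45 : S.ncard = 45 := (m22Layer hD h22).pair q0 (hq 0).1 a (dperp_symm ha (hqa 0))
      b ⟨hb, fun e' => hab (e'.symm ▸ (hqa 0).2.2), (hq 0).2.2.symm⟩ hab
    have hSW : ∀ y ∈ S, y ∈ pairPerp D a b := fun y hy => ⟨hy.1.1, hy.2.1.symm, hy.2.2.symm⟩
    set T := {y | y ∈ dperp D a ∧ Commute y q0 ∧ Commute y (q 1)} with hT
    have hT45 : T.ncard = 45 :=
      (m22Layer hD h22).pair a ha q0 (hqa 0) (q 1) (hqa 1) hnc
    have hproj : ∀ y ∈ S, ∃ z : G, ∃ Y Z : UModel.Pt (hermB 6 θ), tp Y = y ∧ tp Z = z ∧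
        Z.1 = Y.1 + hermB 6 θ E1.1 Y.1 • E0.1 ∧ hermB 6 θ E0.1 Y.1 = 0 ∧
        ∀ c : F, Y.1 ≠ c • E0.1 := by
      intro y hy
      set Y := pt y (pairPerp_subset hD hab (hSW y hy))
      have hY : tp Y = y := hpt _ _
      have h0 : hermB 6 θ E0.1 Y.1 = 0 := (hzero t0 hY).2 hy.1.2.2
      have hind : ∀ c : F, Y.1 ≠ c • E0.1 := fun c hc => hy.1.2.1 (by
        rw [← hY, ← t0]; exact UModel.tp_smul hB hM E0 Y hc)
      refine ⟨_, Y, ⟨Y.1 + hermB 6 θ E1.1 Y.1 • E0.1, fun e' => hind (hermB 6 θ E1.1 Y.1) ?_, ?_⟩,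
        hY, rfl, rfl, h0, hind⟩
      · calc Y.1 = (Y.1 + hermB 6 θ E1.1 Y.1 • E0.1) + hermB 6 θ E1.1 Y.1 • E0.1 := by
              rw [add_assoc, UModel.vadd_self hB, add_zero]
          _ = _ := by rw [e', zero_add]
      · simp [Y.2.2, E0.2.2, h0, (UModel.symm_zero hB).1 h0]
    choose π Yf Zf hYf hZf hZY hY0 hYi using hproj
    let π' : G → G := fun y => if h : y ∈ S then π y h else 1
    have hmaps : π' '' S ⊆ T := by
      rintro - ⟨y, hy, rfl⟩
      simp only [π', dif_pos hy, ← hZf y hy]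
      refine ⟨UModel.tp_mem hM _, ((hzero t0 rfl).1 ?_).symm, ((hzero t1 rfl).1 ?_).symm⟩
      · rw [hZY y hy]; simp [hY0 y hy, E0.2.2]
      · rw [hZY y hy]; simp [hq01, UModel.add_self' hB]
    have hinj : Set.InjOn π' S := by
      intro y hy y' hy' he
      simp only [π', dif_pos hy, dif_pos hy', ← hZf y hy, ← hZf y' hy'] at he
      obtain ⟨c, hc⟩ := (hM.eq_iff _ _).1 he
      rw [hZY y hy, hZY y' hy'] at hc
      by_contra hne
      refine hne (eq_of_line hD h22 ha hb hab (hq 0) (hSW y hy) (hSW y' hy') hy.1.2.2 hy.1.2.1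
        hy'.1.2.1 ?_).symm
      rw [← hYf y hy, ← hYf y' hy', show q 0 = tp E0 from t0.symm,
        UModel.mem_ln hB hM E0 (Yf y hy) (hY0 y hy) (hYi y hy)]
      refine ⟨c * hermB 6 θ E1.1 (Yf y hy).1 + hermB 6 θ E1.1 (Yf y' hy').1, c, ?_⟩
      calc (Yf y' hy').1 = ((Yf y' hy').1 + hermB 6 θ E1.1 (Yf y' hy').1 • E0.1) +
            hermB 6 θ E1.1 (Yf y' hy').1 • E0.1 := by rw [add_assoc, UModel.vadd_self hB, add_zero]
        _ = _ := by rw [hc]; module
    have heq : π' '' S = T := Set.eq_of_subset_of_ncard_le hmaps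
      (by rw [hinj.ncard_image, hS45, hT45]) (Set.toFinite _)
    intro X hX0 hX1
    have hXT : tp X ∈ T := ⟨UModel.tp_mem hM X, ((hzero t0 rfl).1 hX0).symm, ((hzero t1 rfl).1 hX1).symm⟩
    rw [← heq] at hXT
    obtain ⟨y, hy, hyX⟩ := hXT
    simp only [π', dif_pos hy, ← hZf y hy] at hyX
    obtain ⟨c, hc⟩ := (hM.eq_iff _ _).1 hyX
    have hc0 : c ≠ 0 := fun e' => X.2.1 (by rw [hc, e', zero_smul])
    obtain ⟨v, hv1, hv2⟩ := hscale (Yf y hy) c hc0
    refine ⟨c * hermB 6 θ E1.1 (Yf y hy).1, v, ?_, hv2 ▸ (hYf y hy).symm ▸ hSW y hy⟩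
    rw [hc, hZY y hy, hv1, smul_add, smul_smul, add_assoc, UModel.vadd_self hB, add_zero]
  have hcode : ∀ x : V6, V6.form q1 x = .o → V6.form q2 x = .o → V6.form x x = .o → x ≠ V6.zero →
      ∃ i, i < 4 ∧ Good (x.add (V6.smul (par i) q1)) := by
    intro x h1 h2 h3 h4
    have hne : x.val k e ≠ 0 := fun e' => h4 (V6.eq_zero_of_val hFr e')
    have e1 : hermB 6 θ E0.1 (x.val k e) = 0 := by
      rw [← hunit.1, V6.val_form hFr, h1]; rfl
    have e2 : hermB 6 θ E1.1 (x.val k e) = 0 := by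
      rw [← hunit.2.1, V6.val_form hFr, h2]; rfl
    obtain ⟨c, v, hv, hvW⟩ := hlift ⟨x.val k e, hne, by rw [V6.val_form hFr, h3]; rfl⟩ e1 e2
    obtain ⟨i, hi, hic⟩ : ∃ i, i < 4 ∧ Q4.val k (par i) = c := by
      rcases hall c with rfl | rfl | rfl | rfl
      exacts [⟨0, by norm_num, rfl⟩, ⟨1, by norm_num, rfl⟩, ⟨2, by norm_num, rfl⟩, ⟨3, by norm_num, rfl⟩]
    exact ⟨i, hi, v, by rw [V6.val_add hFr, V6.val_smul hFr, hic, hunit.1, hv], hvW⟩
  obtain ⟨m, hm, gm, hm0⟩ : ∃ m, m < 4 ∧ Good ⟨par m, .o, .o, .o, .o, .i⟩ ∧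
      (f ∈ pairPerp D a b → m = 0) := by
    by_cases hfW : f ∈ pairPerp D a b
    · exact ⟨0, by norm_num, hbase E5 _ (by simp [E5, hE, V6.val, par, Q4.val]) (t5 ▸ hfW), fun _ => rfl⟩
    · obtain ⟨i, hi, gi⟩ := hcode ⟨.o, .o, .o, .o, .o, .i⟩ rfl rfl rfl (by decide)
      refine ⟨i, hi, ?_, fun h => absurd h hfW⟩
      generalize par i = p at gi ⊢
      cases p <;> exact gi
  obtain ⟨l, hl, gl⟩ := hcode ⟨.i, .o, .i, .o, .o, .i⟩ rfl rfl rfl (by decide)
  obtain ⟨l', hl', gl'⟩ := hcode ⟨.w, .o, .w, .o, .o, .i⟩ rfl rfl rfl (by decide)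
  set n := 16 * m + 4 * l + l' with hn
  have hseeds : ∀ x ∈ seeds n, Good x := by
    simp only [seeds, show n / 16 = m by omega, show n / 4 % 4 = l by omega,
      show n % 4 = l' by omega, List.mem_cons, List.not_mem_nil, or_false]
    rintro x (rfl | rfl | rfl | rfl | rfl | rfl | rfl | rfl)
    · exact g1
    · exact g2
    · exact g3
    · exact g4
    · exact g5
    · exact gm
    · generalize par l = p at gl ⊢
      cases p <;> exact gl
    · generalize par l' = p at gl' ⊢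
      cases p <;> exact gl'
  exact ⟨n, by omega, fun h => by have := hm0 h; omega, hseeds, htr⟩

/-- Coordinates for the common partners from a chain of four, a partner `u` and a point `f`. -/
theorem frame_of {q : Fin 4 → G} (hq : ∀ i, q i ∈ pairPerp D a b)
    (hqq : ∀ i j, Commute (q i) (q j) ↔ ¬ Adj i j) {u : G} (hu : u ∈ pairPerp D a b)
    (huq : ∀ i, Commute u (q i)) {f : G} (hf : f ∈ dperp D a) (hfq : ∀ i, Commute f (q i))
    (hfu : ¬ Commute f u) :
    ∃ (F : Type) (_ : Field F) (θ : F →+* F) (tp : UModel.Pt (hermB 6 θ) → G) (k : F)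
      (e : Fin 6 → Fin 6 → F) (n : ℕ), UModel.Space (hermB 6 θ) ∧
      UModel.Model (hermB 6 θ) (dperp D a) tp ∧ Frame (hermB 6 θ) k e ∧ n < 64 ∧
      (f ∈ pairPerp D a b → n < 16) ∧ (∀ x ∈ seeds n, Coded (pairPerp D a b) tp k e x) ∧
      (∀ x y, Coded (pairPerp D a b) tp k e x → Coded (pairPerp D a b) tp k e y →
        Coded (pairPerp D a b) tp k e (V6.tr x y)) ∧
      (∀ j : Fin 6, ∃ v : UModel.Pt (hermB 6 θ), v.1 = e j ∧
        tp v = ![q 0, q 1, q 2, q 3, u, f] j) := by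
  obtain ⟨F, _, θ, hF4, hB, hmod⟩ := layer_model hD h22
  obtain ⟨tp, hM⟩ := hmod a ha
  obtain ⟨k, e, hFr, hpts⟩ := SixChain.frame_points hB hF4 hM
    (fun i => pairPerp_subset hD hab (hq i)) hqq (pairPerp_subset hD hab hu) huq hf hfq hfu
  obtain ⟨n, h1, h2, h3, h4⟩ := coded_of hD h22 ha hb hab hB hM hFr hq hu hpts
  exact ⟨F, inferInstance, θ, tp, k, e, n, hB, hM, hFr, h1, h2, h3, h4, hpts⟩

/-- Coded members that are independent are different. -/
theorem ncard_coded {F : Type} [Field F] {θ : F →+* F} {tp : UModel.Pt (hermB 6 θ) → G}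
    (hM : UModel.Model (hermB 6 θ) (dperp D a) tp) {k : F} {e : Fin 6 → Fin 6 → F}
    (hFr : Frame (hermB 6 θ) k e) {P : List V6} (hind : indep P 0 = true)
    (hP : ∀ x ∈ P, Coded (pairPerp D a b) tp k e x) :
    P.length ≤ 126 ∧ (126 ≤ P.length → ∀ y ∈ pairPerp D a b,
      ∃ x ∈ P, ∃ v : UModel.Pt (hermB 6 θ), v.1 = x.val k e ∧ tp v = y) := by
  classical
  rcases P.eq_nil_or_concat with rfl | ⟨P', x₀, hcon⟩
  · simp
  obtain ⟨hnz, hpair⟩ := indep_spec hind
  have : Inhabited (UModel.Pt (hermB 6 θ)) := ⟨(hP x₀ (by simp [hcon])).choose⟩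
  choose! vf hvf hvW using hP
  have hnd : (P.map fun x => tp (vf x)).Nodup := by
    rw [List.Nodup, List.pairwise_map]
    refine hpair.imp_of_mem fun {x y} hx hy hxy e' => ?_
    obtain ⟨c, hc⟩ := (hM.eq_iff _ _).1 e'
    rw [hvf x hx, hvf y hy] at hc
    obtain ⟨p, rfl, hp⟩ := V6.eq_of_val_smul hFr hc
    refine hxy p (fun e0 => (hnz y hy).1 ?_) hp
    rw [hp, e0]
    rfl
  set S : Set G := ↑(P.map fun x => tp (vf x)).toFinset
  have hsub : S ⊆ pairPerp D a b := by
    intro z hz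
    simp only [S, List.coe_toFinset] at hz
    obtain ⟨x, hx, rfl⟩ := List.mem_map.1 hz
    exact hvW x hx
  have hS : S.ncard = P.length := by
    rw [Set.ncard_coe_finset, List.toFinset_card_of_nodup hnd, List.length_map]
  have h126 := ncard_pairPerp hD h22 ha hb hab
  refine ⟨hS ▸ h126 ▸ Set.ncard_le_ncard hsub (Set.toFinite _), fun hle y hy => ?_⟩
  rw [← Set.eq_of_subset_of_ncard_le hsub (by omega) (Set.toFinite _)] at hy
  simp only [S, List.coe_toFinset] at hy
  obtain ⟨x, hx, rfl⟩ := List.mem_map.1 hy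
  exact ⟨x, hx, vf x, hvf x hx, rfl⟩

/-- Only three cases occur. -/
theorem case_of {F : Type} [Field F] {θ : F →+* F} {tp : UModel.Pt (hermB 6 θ) → G}
    (hM : UModel.Model (hermB 6 θ) (dperp D a) tp) {k : F} {e : Fin 6 → Fin 6 → F}
    (hFr : Frame (hermB 6 θ) k e) {n : ℕ} (hn : n < 64)
    (hseeds : ∀ x ∈ seeds n, Coded (pairPerp D a b) tp k e x)
    (htr : ∀ x y, Coded (pairPerp D a b) tp k e x → Coded (pairPerp D a b) tp k e y →
      Coded (pairPerp D a b) tp k e (V6.tr x y)) :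
    16 ≤ n ∧ chain (seeds n) (allChains.getD n []) = true := by
  have htest := check_all hn
  simp only [test, Bool.or_eq_true, Bool.and_eq_true, Nat.ble_eq] at htest
  rcases htest with hbig | h
  · simp only [big, Bool.and_eq_true, Nat.ble_eq] at hbig
    have := (ncard_coded hD h22 ha hb hab hM hFr hbig.2
      (Coded.run htr (hseeds _ (by simp [seeds])) _ _ hseeds)).1
    have := hbig.1
    omega
  · exact h

/-- Two chains and a partner give a chain of six. -/
theorem six_chain_of {q : Fin 4 → G} (hq : ∀ i, q i ∈ pairPerp D a b)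
    (hqq : ∀ i j, Commute (q i) (q j) ↔ ¬ Adj i j) {u : G} (hu : u ∈ pairPerp D a b)
    (huq : ∀ i, Commute u (q i)) {f : G} (hf : f ∈ dperp D a) (hfq : ∀ i, Commute f (q i))
    (hfu : ¬ Commute f u) :
    f ∉ pairPerp D a b ∧ ∃ p : Fin 6 → G, (∀ i, p i ∈ pairPerp D a b) ∧
      ∀ i j, Commute (p i) (p j) ↔ ¬ Adj i j := by
  obtain ⟨F, _, θ, tp, k, e, n, hB, hM, hFr, hn, hm0, hseeds, htr, -⟩ :=
    frame_of hD h22 ha hb hab hq hqq hu huq hf hfq hfu
  obtain ⟨h16, hchain⟩ := case_of hD h22 ha hb hab hM hFr hn hseeds htr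
  simp only [chain, Bool.and_eq_true, decide_eq_true_eq, List.all_eq_true, List.mem_range] at hchain
  set C := allChains.getD n []
  obtain ⟨⟨hlen, hlt⟩, hadj⟩ := hchain
  refine ⟨fun hfW => by have := hm0 hfW; omega, ?_⟩
  have hmem : ∀ i : Fin 6, Coded (pairPerp D a b) tp k e ((seeds n).getD (C.getD i.val 0) q1) := fun i => by
    have hi : C.getD i.val 0 ∈ C := by
      rw [List.getD_eq_getElem _ _ (by rw [hlen]; exact i.isLt)]
      exact List.getElem_mem _
    refine hseeds _ ?_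
    rw [List.getD_eq_getElem _ _ (hlt _ hi)]
    exact List.getElem_mem _
  choose v hv hvW using hmem
  refine ⟨fun i => tp (v i), hvW, fun i j => ?_⟩
  rw [hM.comm_iff, hv, hv, V6.val_form hFr]
  refine Iff.trans ⟨fun h => ?_, fun h => by rw [h]; rfl⟩ (hadj i.val i.isLt j.val j.isLt)
  exact Q4.val_eq_zero hFr h

omit ha hb hab in
/-- A four-chain in the layer of a member perpendicular to two members that do not commute. -/

theorem exists_four_in_layer {w x y : G} (hw : w ∈ D) (hx : x ∈ dperp D w) (hy : y ∈ dperp D w)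
    (hxy : ¬ Commute x y) : ∃ q : Fin 4 → G, (∀ i, q i ∈ dperp D w ∧ Commute x (q i) ∧ Commute y (q i)) ∧
      ∀ i j, Commute (q i) (q j) ↔ ¬ Adj i j := by
  obtain ⟨F, _, θ, hF4, hB, hmod⟩ := layer_model hD h22
  obtain ⟨tp, hM⟩ := hmod w hw
  obtain ⟨vx, rfl⟩ := UModel.exists_tp hM hx
  obtain ⟨vy, rfl⟩ := UModel.exists_tp hM hy
  obtain ⟨q, hq, hqq⟩ := UModel.exists_four_chain hB hF4 vx vy fun h => hxy ((hM.comm_iff _ _).2 h)
  exact ⟨fun i => tp (q i), fun i =>
    ⟨UModel.tp_mem hM _, (hM.comm_iff _ _).2 (hq i).1, (hM.comm_iff _ _).2 (hq i).2⟩,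
    fun i j => (hM.comm_iff _ _).trans (hqq i j)⟩

omit hb hab in
/-- A point of a layer centralising a chain of four that moves a member centralising the chain. -/

theorem exists_perp_point {q : Fin 4 → G} (hqd : ∀ i, q i ∈ dperp D a)
    (hqq : ∀ i j, Commute (q i) (q j) ↔ ¬ Adj i j) {u : G} (hua : u ∈ dperp D a)
    (huq : ∀ i, Commute u (q i)) : ∃ f ∈ dperp D a, (∀ i, Commute f (q i)) ∧ ¬ Commute f u := by
  obtain ⟨F, _, θ, hF4, hB, hmod⟩ := layer_model hD h22
  obtain ⟨tp, hM⟩ := hmod a ha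
  obtain ⟨U, hU⟩ := UModel.exists_tp hM hua
  choose Q hQ using fun i => UModel.exists_tp hM (hqd i)
  have := hB.fin
  have := hB.finF
  -- an isotropic vector perpendicular to the chain but not to `U`
  obtain ⟨f, hff, hfU, hfQ⟩ : ∃ f : Fin 6 → F, hermB 6 θ f f = 0 ∧ hermB 6 θ U.1 f ≠ 0 ∧
      ∀ i, hermB 6 θ (Q i).1 f = 0 := by
    obtain ⟨k, hk1, hk⟩ := UModel.exists_omega hB hF4
    have hk3 : k * k * k = 1 := by linear_combination (k - 1) * hk
    obtain ⟨g, hgg, hUg⟩ := Herm.exists_hyp_partner hB.herm U.2.1 U.2.2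
    have zU : ∀ i, hermB 6 θ U.1 (Q i).1 = 0 := fun i =>
      (hM.comm_iff _ _).1 (by rw [hU, hQ]; exact huq i)
    have zQ : ∀ i j, ¬ Adj i j → hermB 6 θ (Q i).1 (Q j).1 = 0 := fun i j h =>
      (hM.comm_iff _ _).1 (by rw [hQ, hQ]; exact (hqq i j).2 h)
    have nQ : ∀ i j, Adj i j → hermB 6 θ (Q i).1 (Q j).1 ≠ 0 := fun i j h e =>
      (hqq i j).1 (by rw [← hQ i, ← hQ j]; exact (hM.comm_iff _ _).2 e) h
    have z00 := (Q 0).2.2
    have a01 := nQ 0 1 (Or.inl rfl)
    have a32 := nQ 3 2 (Or.inr rfl)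
    have a10 := nQ 1 0 (Or.inr rfl)
    have a23 := nQ 2 3 (Or.inl rfl)
    set c1 : F := hermB 6 θ (Q 0).1 g / hermB 6 θ (Q 0).1 (Q 1).1 with hc1
    set c2 : F := hermB 6 θ (Q 3).1 g / hermB 6 θ (Q 3).1 (Q 2).1 with hc2
    set c0 : F := (hermB 6 θ (Q 1).1 g + c2 * hermB 6 θ (Q 1).1 (Q 2).1) /
      hermB 6 θ (Q 1).1 (Q 0).1 with hc0
    set c3 : F := (hermB 6 θ (Q 2).1 g + c1 * hermB 6 θ (Q 2).1 (Q 1).1) /
      hermB 6 θ (Q 2).1 (Q 3).1 with hc3
    set f0 := g + c0 • (Q 0).1 + c1 • (Q 1).1 + c2 • (Q 2).1 + c3 • (Q 3).1 with hf0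
    have hUf : hermB 6 θ U.1 f0 = 1 := by
      simp [hf0, zU, hUg]
    have hQf : ∀ i, hermB 6 θ (Q i).1 f0 = 0 := by
      have htwo := UModel.two hB
      intro i
      fin_cases i
      · simp only [hf0, map_add, map_smul, smul_eq_mul, Fin.zero_eta, (Q 0).2.2,
          zQ 0 2 (by simp [Adj]), zQ 0 3 (by simp [Adj]), mul_zero, add_zero, hc1,
          div_mul_cancel₀ _ a01]
        exact UModel.add_self' hB _
      · simp only [hf0, map_add, map_smul, smul_eq_mul, Fin.mk_one, (Q 1).2.2,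
          zQ 1 3 (by simp [Adj]), mul_zero, add_zero, hc0, div_mul_cancel₀ _ a10]
        grind
      · simp only [hf0, map_add, map_smul, smul_eq_mul, Fin.reduceFinMk, (Q 2).2.2,
          zQ 2 0 (by simp [Adj]), mul_zero, add_zero, hc3, div_mul_cancel₀ _ a23]
        grind
      · simp only [hf0, map_add, map_smul, smul_eq_mul, Fin.reduceFinMk, (Q 3).2.2,
          zQ 3 0 (by simp [Adj]), zQ 3 1 (by simp [Adj]), mul_zero, add_zero, hc2,
          div_mul_cancel₀ _ a32]
        exact UModel.add_self' hB _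
    rcases UModel.self_cases hB f0 with h | h
    · exact ⟨f0, h, by rw [hUf]; exact one_ne_zero, hQf⟩
    · refine ⟨f0 + k • U.1, ?_, by simp [hUf, U.2.2], fun i => by
        simp [hQf i, (UModel.symm_zero hB).1 (zU i)]⟩
      simp [h, U.2.2, hUf, UModel.symm_one hB hUf, UModel.theta_cube hB hk3]
      linear_combination hk
  have hf0 : f ≠ 0 := fun e => hfU (by rw [e, map_zero])
  refine ⟨tp ⟨f, hf0, hff⟩, UModel.tp_mem hM _, fun i => ?_, ?_⟩
  · rw [← hQ i]; exact ((hM.comm_iff _ _).2 (hfQ i)).symm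
  · rw [← hU]; exact fun e => hfU ((hM.comm_iff _ _).1 e.symm)

/-- A chain of four, a partner `u` centralising it and a point centralising the chain that moves `u`. -/
theorem exists_frame_seed : ∃ q : Fin 4 → G, (∀ i, q i ∈ pairPerp D a b) ∧
    (∀ i j, Commute (q i) (q j) ↔ ¬ Adj i j) ∧ ∃ u ∈ pairPerp D a b, (∀ i, Commute u (q i)) ∧
      ∃ f ∈ dperp D a, (∀ i, Commute f (q i)) ∧ ¬ Commute f u := by
  obtain ⟨u, hu⟩ := Set.nonempty_of_ncard_ne_zero (show (pairPerp D a b).ncard ≠ 0 by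
    rw [ncard_pairPerp hD h22 ha hb hab]; norm_num)
  have hua := pairPerp_subset hD hab hu
  obtain ⟨q, hq, hqq⟩ := exists_four_in_layer hD h22 hu.1 (dperp_symm ha hua)
    (show b ∈ dperp D u from ⟨hb, fun e => hab (e ▸ hua.2.2), hu.2.2.symm⟩) hab
  have hqW : ∀ i, q i ∈ pairPerp D a b := fun i => ⟨(hq i).1.1, (hq i).2.1, (hq i).2.2⟩
  exact ⟨q, hqW, hqq, u, hu, fun i => (hq i).1.2.2, exists_perp_point hD h22 ha
    (fun i => pairPerp_subset hD hab (hqW i)) hqq hua fun i => (hq i).1.2.2⟩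

/-- The common partners of two members that do not commute contain a chain of six. -/
theorem exists_six_chain : ∃ p : Fin 6 → G, (∀ i, p i ∈ pairPerp D a b) ∧
    ∀ i j, Commute (p i) (p j) ↔ ¬ Adj i j := by
  obtain ⟨q, hq, hqq, u, hu, huq, f, hf, hfq, hfu⟩ := exists_frame_seed hD h22 ha hb hab
  exact (six_chain_of hD h22 ha hb hab hq hqq hu huq hf hfq hfu).2

/-- No chain of four and two noncommuting members centralising it. -/
theorem no_four_two {q : Fin 4 → G} (hq : ∀ i, q i ∈ pairPerp D a b)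
    (hqq : ∀ i j, Commute (q i) (q j) ↔ ¬ Adj i j) {u f : G} (hu : u ∈ pairPerp D a b)
    (hf : f ∈ pairPerp D a b) (huq : ∀ i, Commute u (q i)) (hfq : ∀ i, Commute f (q i)) :
    Commute f u := by
  by_contra hfu
  exact (six_chain_of hD h22 ha hb hab hq hqq hu huq (pairPerp_subset hD hab hf) hfq hfu).1 hf

end

/-! ### from Cfsg.Agent.ThreeTrans.Y332.Config -/

section

open Cfsg Cfsg.Agent.Classical Cfsg.Agent.Classical.Herm Module

open Cfsg.Agent.ThreeTrans.Y332

open UModel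

variable {G : Type u} [Group G] {D : Set G}

variable {n : ℕ → G}

section

variable [Finite G] (hD : IsThreeTranspositionGroup D) (h22 : L22 G D)

include hD h22

omit h22 in
theorem sq_dperp (w : G) : ∀ e ∈ dperp D w, e * e = 1 := fun _ he => mul_self hD.1 he.1

/-- The nine members. -/
theorem exists_cfg : ∃ n : ℕ → G, Cfg D n := by
  obtain ⟨a, ha, b, hb, hab, -⟩ := id h22.2
  obtain ⟨p, hp, hpp⟩ := exists_six_chain hD h22 ha hb hab
  obtain ⟨F, _, θ, -, hB, hmod⟩ := layer_model hD h22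
  obtain ⟨tp, hM⟩ := hmod a ha
  have hpa : ∀ j, p j ∈ dperp D a := fun j => pairPerp_subset hD hab (hp j)
  obtain ⟨P, hP, hPp⟩ := exists_chain hB hM hpa fun i j => hpp i j
  obtain ⟨K, hK⟩ := exists_k2 hB hP
  set c := tp K with hc
  have hca : c ∈ dperp D a := tp_mem hM K
  have hcp : ∀ j, Commute (p j) c ↔ j ≠ 2 := fun j => by
    rw [← hPp j, hM.comm_iff, hK, form_k2 hB hP]
    split_ifs with h <;> simp [h]
  have hcb : ¬ Commute b c := by
    intro hbc
    have hcW : c ∈ pairPerp D a b := ⟨hca.1, hca.2.2, hbc⟩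
    have hq : ∀ i, ![c, p 2, p 1, p 0] i ∈ pairPerp D a b := by
      intro i; fin_cases i
      exacts [hcW, hp 2, hp 1, hp 0]
    have hqq : ∀ i j, Commute (![c, p 2, p 1, p 0] i) (![c, p 2, p 1, p 0] j) ↔ ¬ Adj i j := by
      intro i j
      fin_cases i <;> fin_cases j <;>
        simp [Adj, hcp _, Commute.symm_iff (a := c), hpp _ _, Commute.refl]
    have h45 : ¬ Commute (p 4) (p 5) := fun h => (hpp 4 5).1 h (Or.inl rfl)
    refine h45 (no_four_two hD h22 ha hb hab hq hqq (hp 5) (hp 4) (fun i => ?_) fun i => ?_)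
    · fin_cases i
      exacts [(hcp 5).2 (by decide), (hpp 5 2).2 (by simp [Adj]), (hpp 5 1).2 (by simp [Adj]),
        (hpp 5 0).2 (by simp [Adj])]
    · fin_cases i
      exacts [(hcp 4).2 (by decide), (hpp 4 2).2 (by simp [Adj]), (hpp 4 1).2 (by simp [Adj]),
        (hpp 4 0).2 (by simp [Adj])]
  refine ⟨fun x => [a, b, c, p 2, p 3, p 4, p 5, p 1, p 0].getD x 1, fun x hx => ?_, fun x hx y hy => ?_⟩
  · interval_cases x
    exacts [ha, hb, hca.1, (hp 2).1, (hp 3).1, (hp 4).1, (hp 5).1, (hp 1).1, (hp 0).1]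
  · have pa : ∀ j, Commute a (p j) := fun j => (hp j).2.1
    have pb : ∀ j, Commute b (p j) := fun j => (hp j).2.2
    interval_cases x <;> interval_cases y <;>
      simp [adj, hab, show ¬ Commute b a from fun h => hab h.symm, hcb, hca.2.2,
        hca.2.2.symm, pa, pb, fun j => (pa j).symm, fun j => (pb j).symm, hpp _ _, Adj, hcp _,
        Commute.symm_iff (a := c)]

variable (hn : Cfg D n)

include hn

/-- The first relation, and the member moved only by `i`. -/
theorem pow_x : ev n (pw wx 9) = 1 ∧ ∃ r ∈ D, ev n (pw wy 5) = r ∧ ¬ Commute (n 8) r := by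
  have hr := hn.rels hD
  have ha := hn.mem 0 (by norm_num)
  have hb := hn.mem 1 (by norm_num)
  have hab : ¬ Commute (n 0) (n 1) := fun h => by
    have := (hn.comm 0 (by norm_num) 1 (by norm_num)).1 h
    simp [adj] at this
  obtain ⟨F, _, θ, -, hB, hmod⟩ := layer_model hD h22
  obtain ⟨tp, hM⟩ := hmod (n 0) ha
  set p : Fin 6 → G := fun j => n (six j)
  have hp : ∀ j, p j ∈ pairPerp D (n 0) (n 1) := fun j =>
    ⟨hn.mem _ (six_lt j), (hn.comm 0 (by norm_num) _ (six_lt j)).2 (six_perp j).1,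
      (hn.comm 1 (by norm_num) _ (six_lt j)).2 (six_perp j).2.1⟩
  have hpp : ∀ i j, Commute (p i) (p j) ↔ ¬ Adj i j := fun i j =>
    (hn.comm _ (six_lt i) _ (six_lt j)).trans (six_adj i j)
  obtain ⟨P, hP, hPp⟩ := exists_chain hB hM (fun j => pairPerp_subset hD hab (hp j)) hpp
  obtain ⟨K0, hK0⟩ := exists_k0 hB hP
  obtain ⟨K2, hK2⟩ := exists_k2 hB hP
  have hsq := sq_dperp hD (n 0)
  have hc : n 2 = tp K2 := by
    refine eq_tp hB hP hM (hn.dperp_mem (x := 0) (by norm_num) (by norm_num) rfl (by norm_num))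
      (fun i => ?_) K2 fun i => by rw [hK2, form_k2 hB hP]
    rw [hPp i]
    exact (hn.comm 2 (by norm_num) _ (six_lt i)).trans (six_perp i).2.2.2
  set r := tp K0 with hrdef
  have hrm : r ∈ dperp D (n 0) := tp_mem hM K0
  have hrp : ∀ j, Commute (p j) r ↔ j ≠ 0 := fun j => by
    rw [← hPp j, hM.comm_iff, hK0, form_k0 hB hP]
    split_ifs with h <;> simp [h]
  have hrc : Commute (n 2) r := by
    rw [hc, hM.comm_iff, hK2, hK0]
    simp [k2, form_k0 hB hP]
  have hrb : ¬ Commute (n 1) r := by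
    intro hbr
    have hrW : r ∈ pairPerp D (n 0) (n 1) := ⟨hrm.1, hrm.2.2, hbr⟩
    have hq : ∀ i, ![r, p 0, p 1, p 2] i ∈ pairPerp D (n 0) (n 1) := by
      intro i; fin_cases i
      exacts [hrW, hp 0, hp 1, hp 2]
    have hqq : ∀ i j, Commute (![r, p 0, p 1, p 2] i) (![r, p 0, p 1, p 2] j) ↔ ¬ Adj i j := by
      intro i j
      fin_cases i <;> fin_cases j <;>
        simp [Adj, hrp _, Commute.symm_iff (a := r), hpp _ _, Commute.refl]
    have h45 : ¬ Commute (p 4) (p 5) := fun h => (hpp 4 5).1 h (Or.inl rfl)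
    refine h45 (no_four_two hD h22 ha hb hab hq hqq (hp 5) (hp 4) (fun i => ?_) fun i => ?_)
    · fin_cases i
      exacts [(hrp 5).2 (by decide), (hpp 5 0).2 (by simp [Adj]), (hpp 5 1).2 (by simp [Adj]),
        (hpp 5 2).2 (by simp [Adj])]
    · fin_cases i
      exacts [(hrp 4).2 (by decide), (hpp 4 0).2 (by simp [Adj]), (hpp 4 1).2 (by simp [Adj]),
        (hpp 4 2).2 (by simp [Adj])]
  set y := ev n (pw wy 5) with hy
  -- `y` acts on the layer as `r`
  have hyl : y = ((List.replicate 5 [K2, P 2, P 3, P 4, P 5, P 1]).flatten.map tp).prod := by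
    rw [hy, ev, List.map_flatten, List.map_replicate, pw, List.map_flatten, List.map_replicate]
    simp [wy, ← hc, hPp, p, six]
  have hact : ∀ v, y * tp v * y⁻¹ = r * tp v * r := by
    intro v
    rw [hyl, trs_conj hB hM hsq]
    refine (hM.conj K0 v _ ?_).symm
    show trs _ v.1 = _
    rw [trs_five hB hP K0 K2 hK0 hK2, trl_apply]
  have hra : Commute r (n 0) := hrm.2.2.symm
  have hrr : r * r = 1 := mul_self hD.1 hrm.1
  have hya : Commute y (n 0) := by
    rw [hyl]
    refine Commute.list_prod_left _ _ fun e he => ?_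
    obtain ⟨v, -, rfl⟩ := List.mem_map.1 he
    exact (tp_mem hM v : tp v ∈ dperp D (n 0)).2.2.symm
  have hF := m22Full hD h22
  have hcases := eq_one_or_eq_of_centralises hD h22.1 hF.data hF.links ha (c := r * y)
    (hra.mul_left hya) fun e he => by
      obtain ⟨v, rfl⟩ := exists_tp hM he
      show r * y * tp v = tp v * (r * y)
      calc r * y * tp v = r * (y * tp v * y⁻¹) * y := by group
        _ = tp v * (r * y) := by rw [hact]; simp only [← mul_assoc, hrr, one_mul]
  have hx : ev n (pw wx 9) = (n 1 * y) ^ 3 := by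
    rw [ev_eq hr u1, ev_pw, ev_cons, hy]
  have hxc : Commute (n 2) (ev n (pw wx 9)) := by
    have h := ev_eq hr u2
    simp only [ev_cons, ev_append, ev_nil, mul_one] at h
    exact h
  have hyr : y = r := by
    rcases hcases with h | h
    · rw [← inv_eq hD.1 hrm.1]; exact eq_inv_of_mul_eq_one_right h
    exfalso
    have hy' : y = r * n 0 := by rw [← h, ← mul_assoc, hrr, one_mul]
    set A := n 0
    set B := n 1
    have hA := mul_self hD.1 ha
    have hBB := mul_self hD.1 hb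
    have bab := braid hD.1 ha hb hab
    have brb := braid hD.1 hrm.1 hb fun e => hrb e.symm
    have hpow : (B * (r * A)) ^ 3 = r * A * B := by
      calc (B * (r * A)) ^ 3 = B * (r * A) * (B * (A * r)) * (B * (r * A)) := by
            rw [← hra.eq, pow_succ, pow_two]
        _ = B * r * (A * B * A) * (r * B * r) * A := by simp only [mul_assoc]
        _ = B * r * (B * A * B) * (B * r * B) * A := by rw [bab, brb]
        _ = B * r * B * A * (B * B) * r * B * A := by simp only [mul_assoc]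
        _ = (B * r * B) * (A * r) * B * A := by rw [hBB]; simp only [mul_assoc, one_mul]
        _ = (r * B * r) * (r * A) * B * A := by rw [brb, ← hra.eq]
        _ = r * B * ((r * r) * A) * B * A := by simp only [mul_assoc]
        _ = r * (B * A * B) * A := by rw [hrr, one_mul]; simp only [mul_assoc]
        _ = r * A * B := by
          rw [← bab]
          simp only [mul_assoc, hA, mul_one]
    rw [hx, hy', hpow] at hxc
    have hcA : Commute (n 2) A := (hn.comm 2 (by norm_num) 0 (by norm_num)).2 rfl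
    have h1 := (hcA.mul_right hrc).mul_right hxc
    rw [show A * r * (r * A * B) = B by simp only [← mul_assoc, mul_assoc A r r, hrr, mul_one, hA,
      one_mul]] at h1
    have := (hn.comm 2 (by norm_num) 1 (by norm_num)).1 h1
    simp [adj] at this
  refine ⟨?_, r, hrm.1, hyr, fun h => (hrp 0).1 h rfl⟩
  rw [hx, hyr]
  exact cube_of_not_commute hD.1 hb hrm.1 hrb

/-- The second relation. -/
theorem pow_x' : ev n (pw wx' 9) = 1 ∧ ∃ r ∈ D, ev n (pw wy' 5) = r ∧ ¬ Commute (n 8) r := by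
  obtain ⟨h1, r, hr, h2, h3⟩ := pow_x hD h22 hn.mirror
  have e : ∀ w k, (pw w k).map mir = pw (w.map mir) k := fun w k => by
    simp [pw, List.map_flatten]
  rw [← ev_map, e] at h1 h2
  exact ⟨h1, r, hr, h2, h3⟩

/-- `i` moves the member of the highest root. -/
theorem moved_theta : ev n wθ ∈ D ∧ ¬ Commute (n 8) (ev n wθ) := by
  have hr := hn.rels hD
  obtain ⟨h1, r, hrD, h2, h3⟩ := pow_x' hD h22 hn
  set v := ev n wv
  have hvv : v * v = 1 := by
    have h := ev_eq hr u5
    rwa [ev_append, ev_nil] at h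
  have hθ : ev n wθ = v * r * v⁻¹ := by
    rw [ev_eq hr u3, ev_append, ev_append, ev_append, h1, h2, mul_one,
      inv_eq_of_mul_eq_one_right hvv]
  have hθD : ev n wθ ∈ D := by rw [hθ]; exact hD.2.1 v r hrD
  have hvi : Commute v (n 8) := by
    have h := ev_eq hr u4
    simp only [ev_cons, ev_append, ev_nil, mul_one] at h
    exact h
  have hne : ¬ Commute (n 8) (ev n wθ) := by
    intro h
    rw [hθ] at h
    refine h3 ((commute_conj v (n 8) r).1 ?_)
    rwa [show v * n 8 * v⁻¹ = n 8 by rw [hvi.eq, mul_inv_cancel_right]]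
  exact ⟨hθD, hne⟩

/-- The translation by the highest root has order three. -/
theorem cube_t0 : ev n t0 ^ 3 = 1 := by
  rw [t0, ev_cons]
  exact cube_of_not_commute hD.1 (hn.mem 8 (by norm_num)) (moved_theta hD h22 hn).1
    (moved_theta hD h22 hn).2

/-- The translations have order three. -/
theorem cube_t (j : ℕ) : ev n (t j) ^ 3 = 1 :=
  cube_t_of (hn.rels hD) (cube_t0 hD h22 hn) j

/-- The spider relation. -/
theorem pow_spider : ev n ws ^ 10 = 1 := by
  have hr := hn.rels hD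
  set z := ev n (pw ws 10) with hz
  rw [← ev_pw, ← hz]
  have h3 := cube_t hD h22 hn
  have hz3 : z * z * z = 1 := cube_spider hr h3
  have hcm : ∀ {x : ℕ}, x < 9 → n x * z * n x = z → Commute z (n x) := fun {x} hx h => by
    show z * n x = n x * z
    conv_lhs => rw [← h]
    rw [mul_assoc, hr.sq x hx, mul_one]
  have c1 : Commute z (n 1) := hcm (by norm_num) (by
    have h := ev_eq hr z1
    simp only [ev_cons, ev_append, ev_nil, mul_one, ev_pw, h3, pow_one] at h
    rwa [← ev_pw, ← hz] at h)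
  have c2 : Commute z (n 2) := hcm (by norm_num) (by
    have h := ev_eq hr z2
    simp only [ev_cons, ev_append, ev_nil, mul_one, ev_pw, h3, pow_one] at h
    rwa [← ev_pw, ← hz] at h)
  have c3 : Commute z (n 3) := hcm (by norm_num) (by
    have h := ev_eq hr z3
    simp only [ev_cons, ev_append, ev_nil, mul_one, ev_pw, h3, pow_one] at h
    rwa [← ev_pw, ← hz] at h)
  have c4 : Commute z (n 4) := hcm (by norm_num) (by
    have h := ev_eq hr z4
    simp only [ev_cons, ev_append, ev_nil, mul_one] at h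
    rwa [← hz] at h)
  have c5 : Commute z (n 5) := hcm (by norm_num) (by
    have h := ev_eq hr z5
    simp only [ev_cons, ev_append, ev_nil, mul_one, ev_pw, h3, pow_one] at h
    rwa [← ev_pw, ← hz] at h)
  have c8 : Commute z (n 8) := hcm (by norm_num) (by
    have h := ev_eq hr z8
    simp only [ev_cons, ev_append, ev_nil, mul_one, ev_pw, cube_t0 hD h22 hn] at h
    rwa [← ev_pw, ← hz] at h)
  have hi := hn.mem 8 (by norm_num)
  have hF := m22Full hD h22
  have hzcl : z ∈ Subgroup.closure (dperp D (n 8)) := by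
    rw [← centralizer_eq_closure hD hF h22.1 hi]
    exact Subgroup.mem_centralizer_singleton_iff.2 c8.eq
  obtain ⟨F, _, θ, -, hB, hmod⟩ := layer_model hD h22
  obtain ⟨tp, hM⟩ := hmod (n 8) hi
  have hlt : ∀ j : Fin 6, j.val < 9 := fun j => by omega
  have hdec : ∀ i j : Fin 6, adj i.val j.val = false ↔ ¬ (i.val + 1 = j.val ∨ j.val + 1 = i.val) := by
    decide
  have hd8 : ∀ j : Fin 6, adj 8 j.val = false ∧ 8 ≠ j.val := by decide
  obtain ⟨P, hP, hPp⟩ := exists_chain hB hM
    (p := fun j : Fin 6 => n j.val)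
    (fun j => hn.dperp_mem (by norm_num) (hlt j) (hd8 j).1 (hd8 j).2)
    fun i j => (hn.comm _ (hlt i) _ (hlt j)).trans (hdec i j)
  have hall := acts_trivially hB hP (sq_dperp hD (n 8)) hM hzcl hz3 fun j hj => by
    rw [hPp j]
    fin_cases j
    exacts [absurd rfl hj, c1, c2, c3, c4, c5]
  rcases eq_one_or_eq_of_centralises hD h22.1 hF.data hF.links hi c8 hall with h | h
  · exact h
  · exfalso
    rw [h, mul_self hD.1 hi, one_mul] at hz3
    exact ne_one hD.1 hi hz3

end

end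

/-! ### from Cfsg.Agent.ThreeTrans.Y332.Iso -/

section

open Cfsg.Agent.ThreeTrans.Y332

open Cfsg.Spor Cfsg.Spor.Fi22

/-- Every group of type M(22) is isomorphic to the presented Fi₂₂, the generators going to members. -/
theorem exists_iso {G : Type u} [Group G] [Finite G] {D : Set G} (hD : IsThreeTranspositionGroup D)
    (hcls : IsThreeTranspositionClass D) (h22 : L22 G D) :
    ∃ e : Spor.Fi22 ≃* G, ∀ x : Gen, e (PresentedGroup.of x) ∈ D := by
  obtain ⟨n, hn⟩ := exists_cfg hD h22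
  have hr := hn.rels hD
  set f : Gen → G := fun x => n (num x) with hf
  have hrel : ∀ r ∈ coxRelators edges ∪ {r | r ∈ extra}, FreeGroup.lift f r = 1 := by
    rintro r (⟨x, -, y, -, rfl⟩ | hr')
    · rw [map_pow, map_mul, FreeGroup.lift_apply_of, FreeGroup.lift_apply_of, label_eq]
      split_ifs with hxy hadj
      · subst hxy
        rw [pow_one]
        exact hr.sq _ (num_lt x)
      · refine cube_of_not_commute hD.1 (hn.mem _ (num_lt x)) (hn.mem _ (num_lt y)) fun h => ?_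
        rw [(hn.comm _ (num_lt x) _ (num_lt y)).1 h] at hadj
        simp at hadj
      · have h := hr.comm _ (num_lt x) _ (num_lt y) (by simpa using hadj)
        show (n (num x) * n (num y)) ^ 2 = 1
        rw [h.mul_pow, pow_two, pow_two, hr.sq _ (num_lt x), one_mul, hr.sq _ (num_lt y)]
    · simp only [extra, List.mem_cons, List.not_mem_nil, or_false, Set.mem_ofPred_eq] at hr'
      rcases hr' with rfl | rfl | rfl
      · simp only [map_pow, map_mul, FreeGroup.lift_apply_of, hf, num]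
        have := pow_spider hD h22 hn
        simpa [ev, ws, mul_assoc] using this
      · simp only [map_pow, map_mul, FreeGroup.lift_apply_of, hf, num]
        have h := (pow_x' hD h22 hn).1
        rw [ev_pw] at h
        have hinv : ev n [7, 0, 1, 2, 3, 4, 5] ^ 9 = 1 := by
          rw [show [7, 0, 1, 2, 3, 4, 5] = wx'.reverse from rfl, ev_reverse hr (by decide), inv_pow, h,
            inv_one]
        have e : n 0 * n 1 * n 2 * n 3 * n 4 * n 5 * n 7 =
            n 7 * ev n [7, 0, 1, 2, 3, 4, 5] * (n 7)⁻¹ := by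
          rw [inv_eq_of_mul_eq_one_right (hr.sq 7 (by norm_num))]
          simp only [ev_cons, ev_nil, mul_one, ← mul_assoc]
          rw [hr.sq 7 (by norm_num), one_mul]
        rw [e, conj_pow, hinv, mul_one, mul_inv_cancel]
      · simp only [map_pow, map_mul, FreeGroup.lift_apply_of, hf, num]
        have := (pow_x hD h22 hn).1
        rw [ev_pw] at this
        simpa [ev, wx, mul_assoc] using this
  set φ := PresentedGroup.toGroup hrel
  have hφ : ∀ x, φ (PresentedGroup.of x) = n (num x) := fun x => PresentedGroup.toGroup.of hrel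
  obtain ⟨hsimp, hcard⟩ := CosetCert.Fi22Order.order_and_simple
  have : IsSimpleGroup Spor.Fi22 := hsimp
  have hinj : Function.Injective φ := by
    rw [← MonoidHom.ker_eq_bot_iff]
    refine (φ.normal_ker.eq_bot_or_eq_top).resolve_right fun h => ?_
    refine ne_one hD.1 (hn.mem 0 (by norm_num)) ?_
    have h' : PresentedGroup.of Gen.a ∈ φ.ker := h ▸ Subgroup.mem_top _
    rwa [MonoidHom.mem_ker, hφ] at h'
  have hG : Nat.card G = Nat.card Spor.Fi22 := by
    rw [hcard, (primeData hD hcls h22).card]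
  have hbij : Function.Bijective φ :=
    (Nat.bijective_iff_injective_and_card φ).2 ⟨hinj, hG.symm⟩
  exact ⟨MulEquiv.ofBijective φ hbij, fun x => by
    rw [MulEquiv.ofBijective_apply, hφ]; exact hn.mem _ (num_lt x)⟩

end

end Cfsg.Agent.ThreeTrans.Steps.L22
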