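import Cfsg.Agent.ThreeTrans.Steps.Common
import Cfsg.Agent.ThreeTrans.Steps.L22
import Cfsg.Agent.FischerTypes.M22

/-!
# From U₆(2) to type M(22)

If the members commuting with one member generate PSU(6, 2) modulo the centre, then the group with
its class is the presented Fi₂₂ with its transpositions, so of type M(22).
-/

set_option autoImplicit false

open Cfsg

namespace Cfsg.Agent.ThreeTrans.Steps

variable {G : Type*} [Group G] [Finite G] {D : Set G}

/-- The step from PSU(6, 2) to M(22). -/
theorem m22_step (hD : IsThreeTranspositionGroup D) (hprim : IsPrimitiveUnderConj D)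
    (hZ : Subgroup.center G = ⊥) {d : G} (hd : d ∈ D) {F : Type} [Field F] [Fintype F]
    (hF : Fintype.card F = 4)
    (e : ↥(Subgroup.closure {y : G | y ∈ D ∧ y ≠ d ∧ Commute d y}) ⧸
      Subgroup.center ↥(Subgroup.closure {y : G | y ∈ D ∧ y ≠ d ∧ Commute d y}) ≃* PSU 6 F 2) :
    IsOfTypeM22 G D := by
  obtain ⟨hcls, hcls1, c, hc, hdc⟩ := class_and_moved hD hprim hd
  have h22 : L22.L22 G D :=
    ⟨hZ, d, hd, c, hc, hdc, ⟨F, inferInstance, inferInstance, hF, ⟨e⟩⟩, 1, by decide, hcls1⟩
  obtain ⟨f, hf⟩ := L22.exists_iso hD hcls h22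
  have h := FischerTypes.m22_transfer f FischerTypes.F22.isM22
  have he : f '' FischerTypes.F22.D = D :=
    image_class f hcls (b := FischerTypes.F22.t) mem_conjugatesOf_self (hf Cfsg.Spor.Fi22.Gen.a)
  rw [he] at h
  exact h

end Cfsg.Agent.ThreeTrans.Steps
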