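import Cfsg.Agent.ThreeTrans.Y342.Iso

/-!
# The chain to `Y342.Iso` with the last component of `IsOfTypeM23` replaced by the class

The proofs are those of the files named in the sections, read for `L23`.
-/

set_option autoImplicit false
set_option maxRecDepth 100000

open Cfsg

universe u

namespace Cfsg.Agent.ThreeTrans.Steps.L23

/-- What is used of `IsOfTypeM23`: the lower part, and `D` is one class. -/
def L23 (X : Type*) [Group X] (D₀ : Set X) : Prop :=
  Subgroup.center X = ⊥ ∧ ∃ d ∈ D₀, ∃ c ∈ D₀, ¬ Commute d c ∧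
    IsOfTypeM22 (↥(Subgroup.closure {y : X | y ∈ D₀ ∧ y ≠ d ∧ Commute d y}) ⧸ Subgroup.center ↥(Subgroup.closure {y : X | y ∈ D₀ ∧ y ≠ d ∧ Commute d y}))
      ((QuotientGroup.mk : ↥(Subgroup.closure {y : X | y ∈ D₀ ∧ y ≠ d ∧ Commute d y}) → _) ''
        {x : ↥(Subgroup.closure {y : X | y ∈ D₀ ∧ y ≠ d ∧ Commute d y}) | (x : X) ∈ {y : X | y ∈ D₀ ∧ y ≠ d ∧ Commute d y}}) ∧
    ∃ c₃ : ZMod 3, c₃ ≠ 0 ∧ IsThreeTranspositionClass (D₀ \ {1})

section
variable {X : Type*} [Group X] [Finite X] {D₀ : Set X}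

theorem layerData_of_M23 (hD : IsThreeTranspositionGroup (D₀ \ {1})) (h : L23 X D₀) :
    LayerData (D₀ \ {1}) := by
  obtain ⟨hZ, d, hd0, c, hc0, hdc, h22, c₃, -, hR⟩ := h
  have hd : d ∈ D₀ \ {1} := ⟨hd0, fun hh => hdc (by rw [hh]; exact Commute.one_left c)⟩
  have hc : c ∈ D₀ \ {1} := ⟨hc0, fun hh => hdc (by rw [hh]; exact Commute.one_right d)⟩
  set H := Subgroup.closure {y : X | y ∈ D₀ ∧ y ≠ d ∧ Commute d y}
  have hH : H = Subgroup.closure (dperp (D₀ \ {1}) d) := closure_congr_one (dperp_diff_iff d)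
  have hset : lowImage H (dperp D₀ d) \ {1} = lowImage H (dperp (D₀ \ {1}) d) \ {1} :=
    lowImage_congr H (dperp_diff_iff d)
  have hlow := layerData_of_M22 (D₀ := lowImage H (dperp D₀ d))
    (by rw [hset]; exact lowImage_group hD hH) h22
  rw [hset] at hlow
  obtain ⟨hG, -, hcard⟩ := hlow
  have hcls := hR
  have hN := noTwins_of_local hD hd hH hcls hG
  exact ⟨⟨hcls, ⟨d, hd, c, hc, fun hh => hdc (hh ▸ Commute.refl d)⟩, hN⟩,
    fun q hq => noTwins_dperp hD hd hH hcls hG hN hq,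
    (hcard.trans (Subgroup.card_quotient_dvd_card _)).trans (Subgroup.card_subgroup_dvd_card _)⟩
end


/-! ### from Cfsg.Agent.ThreeTrans.TypeM -/

section

variable {X : Type*} [Group X] [Finite X] {D₀ : Set X}

variable {G : Type*} [Group G] [Finite G] {D : Set G}

/-- What is used about a group of type M(23) or M(24) with primitive action on the class. -/
theorem top_data (hD : IsThreeTranspositionGroup D) (hprim : IsPrimitiveUnderConj D)
    (h : L23 G D) :
    NoTwins D ∧ (∀ a ∈ D, ∀ b ∈ dperp D a, NoTwins (dperp (dperp D a) b)) ∧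
      ∀ a ∈ D, ∀ p ∈ dperp D a, ∀ q ∈ dperp D a, Commute p q → p ≠ q →
        ∃ w ∈ dperp D a, ¬ Commute w p ∧ ¬ Commute w q := by
  obtain ⟨d, hd, c, hc, hdc, hX⟩ : ∃ d ∈ D, ∃ c ∈ D, ¬ Commute d c ∧
      LayerData (lowImage (Subgroup.closure (dperp D d)) (dperp D d) \ {1}) := by
    obtain ⟨-, d, hd, c, hc, hdc, h22, -⟩ := h
    exact ⟨d, hd, c, hc, hdc, layerData_of_M22 (lowImage_group hD rfl) h22⟩
  have hN : NoTwins D := noTwins_of_primitive hD.2.1 hprim ⟨d, hd, c, hc, hdc⟩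
  have hcls : IsThreeTranspositionClass D := by
    refine ⟨hD.1, ⟨d, hd, Set.Subset.antisymm (fun f hf => isConj_iff.2 (hprim.1 d hd f hf)) ?_⟩,
      hD.2.2⟩
    intro f hf
    obtain ⟨g, rfl⟩ := isConj_iff.1 hf
    exact hD.2.1 g d hd
  obtain ⟨hG, hdeep, -⟩ := hX
  exact ⟨hN, fun a ha b hb => noTwins_dperp_dperp hD hd rfl hcls hG hN hdeep ha hb,
    fun a ha p hp q hq hpq hne => exists_partner_dperp hD hd rfl hcls hG hN ha hp hq hpq hne⟩

end

/-! ### from Cfsg.Agent.ThreeTrans.RigidTypeM -/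

section

variable {G K L : Type*} [Group G] [Group K] [Group L] {D S : Set G} {T : Set K} {U : Set L}
  {a b d g : G} {H : Subgroup G}

section

variable [Finite G] (hD : IsThreeTranspositionGroup D) (hd : d ∈ D)
  (hH : H = Subgroup.closure (dperp D d)) (hcls : IsThreeTranspositionClass D)
  (hG : GoodClass (lowImage H (dperp D d) \ {1})) (hN : NoTwins D)

include hD hd hH hcls hG hN

end

variable {X : Type*} [Group X] [Finite X] {D₀ : Set X}

theorem nice_of_M23 (hD : IsThreeTranspositionGroup (D₀ \ {1})) (h : L23 X D₀) :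
    Nice (D₀ \ {1}) := by
  obtain ⟨⟨hcls, -, hN⟩, -, -⟩ := layerData_of_M23 hD h
  obtain ⟨-, d, hd0, c, -, hdc, h22, -⟩ := h
  have hd : d ∈ D₀ \ {1} := ⟨hd0, fun hh => hdc (by rw [hh]; exact Commute.one_left c)⟩
  set H := Subgroup.closure {y : X | y ∈ D₀ ∧ y ≠ d ∧ Commute d y}
  have hH : H = Subgroup.closure (dperp (D₀ \ {1}) d) := closure_congr_one (dperp_diff_iff d)
  have hset : lowImage H (dperp D₀ d) \ {1} = lowImage H (dperp (D₀ \ {1}) d) \ {1} :=
    lowImage_congr H (dperp_diff_iff d)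
  have hgrp : IsThreeTranspositionGroup (lowImage H (dperp D₀ d) \ {1}) := by
    rw [hset]; exact lowImage_group hD hH
  obtain ⟨hG, -, -⟩ := layerData_of_M22 (D₀ := lowImage H (dperp D₀ d)) hgrp h22
  obtain ⟨hU, hodd⟩ := nice_of_M22 (D₀ := lowImage H (dperp D₀ d)) hgrp h22
  rw [hset] at hG hU hodd
  have hS := closedSet_of_group hD
  have hrich := rich_of_layer hD hd hH hcls hG hN
  refine nice_of_layers hS (sep_of_class hcls hN) hrich (diam_of_odd hS hrich fun x hx u hu => ?_)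
    fun t ht => nice_layer hD hd hH hcls hG hN hU ht
  obtain ⟨φ, hφ⟩ := exists_layer_iso hD hd hH hcls hG hN hx
  rw [(hφ.restrict hu).ncard_eq]
  exact hodd _ (hφ.bij.mapsTo hu)

section

variable [Finite G]

end

end

/-! ### from Cfsg.Agent.ThreeTrans.TypeM23 -/

section

variable {G K : Type*} [Group G] [Group K] {D S : Set G} {T : Set K}

theorem m23Data [Finite G] (hD : IsThreeTranspositionGroup D) (hprim : IsPrimitiveUnderConj D)
    (h : L23 G D) : M23Data D := by
  have hcls := class_of_primitive hD hprim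
  obtain ⟨hN, hN2, -⟩ := top_data hD hprim h
  have e : D \ {1} = D := Set.sdiff_singleton_eq_self fun h1 => ne_one hD.1 h1 rfl
  have hnice := nice_of_M23 (D₀ := D) (by rwa [e]) h
  rw [e] at hnice
  obtain ⟨hZ, d, hd, c, -, -, h22, -⟩ := h
  set H := Subgroup.closure {y : G | y ∈ D ∧ y ≠ d ∧ Commute d y}
  have hH : H = Subgroup.closure (dperp D d) := rfl
  have hgrp := lowImage_group hD hH
  obtain ⟨hG, -, -⟩ := layerData_of_M22 (D₀ := lowImage H (dperp D d)) hgrp h22
  obtain ⟨hU, hodd⟩ := nice_of_M22 (D₀ := lowImage H (dperp D d)) hgrp h22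
  have hfull := layer_M22 hD hH h22
  set T := lowImage H (dperp D d) \ {1} with hTdef
  have hS := closedSet_of_group hD
  have hiso : ∀ {a}, a ∈ D → ∃ φ, SetIso (dperp D a) T φ := fun ha =>
    exists_layer_iso hD hd hH hcls hG hN ha
  have hlayer : ∀ t ∈ D, Nice (dperp D t) := fun t ht => nice_layer hD hd hH hcls hG hN hU ht
  have hlayer2 : ∀ t ∈ D, ∀ u ∈ dperp D t, Nice (dperp (dperp D t) u) := fun t ht u hu => by
    obtain ⟨φ, hφ⟩ := hiso ht
    exact (hφ.restrict hu).nice ((hS.dperp t).dperp u)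
      (hfull.data.layerNice _ (hφ.bij.mapsTo hu))
  have hhyp : ∀ t ∈ D, Hyp (dperp D t) := fun t ht => by
    obtain ⟨φ, hφ⟩ := hiso ht
    exact hφ.hyp (hS.dperp t) (hyp_of_M22Full hgrp hfull)
  have htrace : Trace D := trace_of_layers hnice.diam fun t ht => by
    obtain ⟨φ, hφ⟩ := hiso ht
    exact hφ.trace hfull.data.trace
  refine ⟨hnice, hN, hN2, htrace, hhyp, hnice, hlayer, fun a ha u hu w hw => ?_,
    fun a ha a' ha' u hu w hw huw hne => ?_,
    fun u hu w hw a ha a' ha' haw haw' hna hna' => ?_,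
    fun x hx y hy z hz hxy hne hxz hyz => ?_, fun a ha u hu k hk hku => ?_⟩
  · obtain ⟨φ, hφ⟩ := hiso ha
    obtain ⟨k, hk, h1, h2⟩ := exists_moved hgrp hfull (hφ.bij.mapsTo hu)
      ((hφ.restrict hu).bij.mapsTo hw)
    obtain ⟨z, hz, rfl⟩ := hφ.bij.surjOn hk
    exact ⟨z, hz, fun e => h1 ((hφ.comm z hz u hu).2 e), fun e => h2 ((hφ.comm z hz w hw.1).2 e)⟩
  · obtain ⟨φ, hφ⟩ := hiso ha
    obtain ⟨k, hk, h1, h2⟩ := (hfull.transport hgrp).move _ (hφ.bij.mapsTo ha') _
      ((hφ.restrict ha').bij.mapsTo hu) _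
      (((hφ.restrict ha').restrict hu).bij.mapsTo ⟨hw, hne.symm, huw⟩)
    obtain ⟨z, hz, rfl⟩ := (hφ.restrict ha').bij.surjOn hk
    exact ⟨z, hz.1, hz.2.2.symm, fun e => h1 ((hφ.comm z hz.1 u hu.1).2 e),
      fun e => h2 ((hφ.comm z hz.1 w hw.1).2 e)⟩
  · have hA : a ∈ dperp (dperp D u) w := ⟨ha, hna, haw.symm⟩
    have hA' : a' ∈ dperp (dperp D u) w := ⟨ha', hna', haw'.symm⟩
    by_cases haa : Commute a a'
    · exact ⟨a, hA, Commute.refl a, haa⟩
    · obtain ⟨c, hc, hca'⟩ := (hlayer2 u hu w hw).diam a hA a' hA' haa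
      exact ⟨c, hc.1, hc.2.2.symm, hca'⟩
  · refine third_of_odd hD hx hy hz hxy hne hxz hyz ?_
    have hyX : y ∈ dperp D x := ⟨hy, hne.symm, hxy⟩
    obtain ⟨φ, hφ⟩ := hiso hx
    rw [(hφ.restrict hyX).ncard_eq]
    exact hodd _ (hφ.bij.mapsTo hyX)
  -- the centraliser in the base layer
  have hbase : ∀ u ∈ dperp D d, ∀ k ∈ H, Commute k u → k ∈ memGroup D u := by
    intro u hu k hk hku
    set uH : H := ⟨u, mem_H hH hu⟩
    set kH : H := ⟨k, hk⟩
    have hne := mk_ne_one hD hd hH hcls hG hN (u := uH) hu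
    have hmem : (kH : H ⧸ Subgroup.center H) ∈ Subgroup.closure
        (dperp T (uH : H ⧸ Subgroup.center H)) := by
      rw [← centralizer_eq_closure hgrp hfull h22.1 ⟨⟨uH, hu, rfl⟩, hne⟩,
        Subgroup.mem_centralizer_singleton_iff]
      exact (((show Commute kH uH from Subtype.ext hku.eq).map (QuotientGroup.mk' _))).eq
    set A : Subgroup H := Subgroup.closure {x : H | (x : G) ∈ dperp D d ∧ Commute u (x : G)}
    have hle : Subgroup.closure (dperp T (uH : H ⧸ Subgroup.center H)) ≤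
        A.map (QuotientGroup.mk' _) := by
      refine (Subgroup.closure_le _).2 ?_
      rintro - ⟨⟨⟨x, hx, rfl⟩, -⟩, -, hux⟩
      exact ⟨x, Subgroup.subset_closure ⟨hx, reflect hD hH (u := uH) hu hx hux⟩, rfl⟩
    obtain ⟨y, hy, hyk⟩ := hle hmem
    have hz : y⁻¹ * kH ∈ Subgroup.center H := QuotientGroup.eq.1 hyk
    have hA : A.map H.subtype ≤ memGroup D u := by
      rw [MonoidHom.map_closure, Subgroup.closure_le]
      rintro - ⟨x, ⟨hx, hux⟩, rfl⟩
      exact Subgroup.subset_closure ⟨hx.1, hux⟩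
    have hz' : (↑(y⁻¹ * kH) : G) ∈ memGroup D u := by
      rcases eq_one_or_eq_of_centralises' hD hZ hnice htrace hhyp hd
        (commute_of_mem_H hH (y⁻¹ * kH).2).symm (fun x hx =>
          (congrArg Subtype.val (Subgroup.mem_center_iff.1 hz ⟨x, mem_H hH hx⟩)).symm) with h | h
      · rw [h]; exact one_mem _
      · rw [h]; exact Subgroup.subset_closure ⟨hd, hu.2.2.symm⟩
    have := mul_mem (hA ⟨y, hy, rfl⟩) hz'
    simpa [kH] using this
  obtain ⟨g, hg⟩ := class_isConj hcls ha hd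
  have hk' : g * k * g⁻¹ ∈ H := by
    suffices (Subgroup.closure (dperp D a)).map (MulAut.conj g).toMonoidHom ≤
        Subgroup.closure (dperp D d) from this ⟨k, hk, rfl⟩
    rw [MonoidHom.map_closure, Subgroup.closure_le]
    rintro - ⟨x, hx, rfl⟩
    exact Subgroup.subset_closure (hg ▸ dperp_conj hD.2.1 g hx)
  have := hbase (g * u * g⁻¹) (hg ▸ dperp_conj hD.2.1 g hu) _ hk' ((commute_conj g k u).2 hku)
  have h2 := memGroup_conj hD.2.1 (g := g⁻¹) this
  simpa [mul_assoc] using h2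

end

/-! ### from Cfsg.Agent.ThreeTrans.PairM23 -/

section

open scoped commutatorElement

variable {G : Type*} [Group G] {D : Set G}

/-- The joint centraliser of a commuting pair at the base of type M(23). -/
theorem pair_base [Finite G] (hD : IsThreeTranspositionGroup D)
    (hprim : IsPrimitiveUnderConj D) (h : L23 G D) :
    ∃ d ∈ D, ∃ (F : Type) (_ : Field F) (_ : Fintype F), Fintype.card F = 4 ∧ ∀ b ∈ dperp D d,
      ⁅pairCen d b, pairCen d b⁆ = pairCen d b ∧
        ∃ φ : ↥(pairCen d b) →* PSU 6 F 2, Function.Surjective φ ∧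
          ∀ g, φ g = 1 ↔ (g : G) ∈ Subgroup.closure ({d, b} : Set G) := by
  classical
  have hF := m23Data hD hprim h
  have hcls := class_of_primitive hD hprim
  have hT := hD.1
  have hc := hD.2.1
  obtain ⟨hZ, d, hd, c₀, -, -, h22, -⟩ := h
  set H := Subgroup.closure {y : G | y ∈ D ∧ y ≠ d ∧ Commute d y}
  have hH : H = Subgroup.closure (dperp D d) := rfl
  have hgrp := lowImage_group hD hH
  obtain ⟨hG, -, -⟩ := layerData_of_M22 (D₀ := lowImage H (dperp D d)) hgrp h22
  have hfull := layer_M22 hD hH h22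
  obtain ⟨F, hFld, hFt, hFc, hquot⟩ := m22_quotient hgrp h22
  set T := lowImage H (dperp D d) \ {1} with hTdef
  have hN := hF.noTwins
  refine ⟨d, hd, F, hFld, hFt, hFc, fun b hb => ?_⟩
  set bH : H := ⟨b, mem_H hH hb⟩ with hbH
  have hBT : (bH : H ⧸ Subgroup.center H) ∈ T :=
    ⟨⟨bH, hb, rfl⟩, mk_ne_one hD hd hH hcls hG hN (u := bH) hb⟩
  set B : H ⧸ Subgroup.center H := (bH : H ⧸ Subgroup.center H)
  set A := dperp (dperp D d) b with hA
  set K₀ := Subgroup.closure A
  have hcen : ∀ z : H, (z : H ⧸ Subgroup.center H) = 1 → (z : G) = 1 ∨ (z : G) = d := fun z hz =>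
    eq_one_or_eq_of_centralises' hD hZ hF.nice hF.trace hF.hyp hd (commute_of_mem_H hH z.2).symm
      ((mk_eq_one_iff hH).1 hz)
  -- lifts of the partners of the point
  have hlift : ∀ q ∈ dperp T B, ∃ u : H, (u : G) ∈ A ∧ (u : H ⧸ Subgroup.center H) = q := by
    rintro - ⟨⟨⟨u, hu, rfl⟩, -⟩, hne, hBu⟩
    exact ⟨u, ⟨hu, fun e => hne (congrArg _ (Subtype.ext e : u = bH)),
      reflect hD hH (u := bH) hb hu hBu⟩, rfl⟩
  have hinj : ∀ u v : H, (u : G) ∈ A → (v : G) ∈ A →
      (u : H ⧸ Subgroup.center H) = v → u = v := fun u v hu hv h =>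
    eq_of_mk_eq hD hH hu.1 hv.1 (mk_ne_one hD hd hH hcls hG hN hu.1) h
  -- `d` is a product of six partners of the pair
  obtain ⟨W, P, R, X₁, X₂, X₃, hmemA, hprod⟩ : ∃ W P R X₁ X₂ X₃ : G,
      (∀ x ∈ [W, P, R, X₁, X₂, X₃], x ∈ A) ∧ d = R * P * W * (X₁ * X₂ * X₃) := by
    obtain ⟨w, hw⟩ := hfull.data.nice.rich B hBT
    have hBw : B ∈ dperp T w := dperp_symm hBT hw
    obtain ⟨p, hp⟩ := (hfull.data.layerNice w hw.1).rich B hBw
    obtain ⟨r, hr, hrB, hrp, hrl⟩ := (hfull.planes w hw.1).ext B hBw p hp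
    have hrp' : r ∈ dperp (dperp T w) p :=
      ⟨hr, fun e => hrl (by rw [e]; exact mem_ln_right hp.1), hrp.symm⟩
    obtain ⟨x₁, x₂, x₃, hX, hXl, hXnd, hXS⟩ :=
      factor_second hgrp h22.1 hfull.data hw.1 hp.1 hrp'
    have hXline : ∀ x ∈ [x₁, x₂, x₃], x ∈ ln (dperp T w) p r := by
      intro x hx
      rw [hXl]
      simp only [List.mem_cons, List.not_mem_nil, or_false] at hx
      simp only [Set.mem_insert_iff, Set.mem_singleton_iff]
      tauto
    have hall : ∀ x ∈ [w, p, r, x₁, x₂, x₃], x ∈ dperp T B := by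
      simp only [List.mem_cons, List.not_mem_nil, or_false]
      intro x hx
      have hline : x ∈ ln (dperp T w) p r → x ∈ dperp T B := fun hl => by
        refine ⟨hl.1.1, fun e => ?_, hl.2 B hBw hp.2.2 hrB.symm⟩
        rw [e] at hl
        have hpair := ((hfull.data.layerLines w hw.1).pair p hp.1 r hrp' B hl p (mem_ln_left hp.1)
          hp.2.1.symm).2
        exact hrl (hpair ▸ mem_ln_right hrp'.1)
      rcases hx with rfl | rfl | rfl | rfl | rfl | rfl
      exacts [hw, hline (mem_ln_left hp.1), hline (mem_ln_right hrp'.1),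
        hline (hXline _ (by simp)), hline (hXline _ (by simp)), hline (hXline _ (by simp))]
    obtain ⟨W, hWA, hW⟩ := hlift w (hall w (by simp))
    obtain ⟨P, hPA, hP⟩ := hlift p (hall p (by simp))
    obtain ⟨R, hRA, hR⟩ := hlift r (hall r (by simp))
    obtain ⟨X₁, h1A, h1⟩ := hlift x₁ (hall x₁ (by simp))
    obtain ⟨X₂, h2A, h2⟩ := hlift x₂ (hall x₂ (by simp))
    obtain ⟨X₃, h3A, h3⟩ := hlift x₃ (hall x₃ (by simp))
    have hu : (((W * P * R)⁻¹ * (X₁ * X₂ * X₃) : H) : H ⧸ Subgroup.center H) = 1 := by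
      simp only [QuotientGroup.mk_mul, QuotientGroup.mk_inv, hW, hP, hR, h1, h2, h3]
      have := hX.2.2.2.2
      simp only [List.prod_cons, List.prod_nil, mul_one, ← mul_assoc] at this
      rw [this, inv_mul_cancel]
    refine ⟨W, P, R, X₁, X₂, X₃, ?_, ?_⟩
    · simp only [List.mem_cons, List.not_mem_nil, or_false]
      rintro x (rfl | rfl | rfl | rfl | rfl | rfl)
      exacts [hWA, hPA, hRA, h1A, h2A, h3A]
    have he : (((W * P * R)⁻¹ * (X₁ * X₂ * X₃) : H) : G) =
        (R : G) * P * W * ((X₁ : G) * X₂ * X₃) := by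
      simp only [Subgroup.coe_mul, Subgroup.coe_inv, mul_inv_rev, inv_eq hT hRA.1.1,
        inv_eq hT hPA.1.1, inv_eq hT hWA.1.1, mul_assoc]
    rcases hcen _ hu with h | h
    · exfalso
      have hne : ∀ {u v : H}, (u : H ⧸ Subgroup.center H) ≠ v → (u : G) ≠ v := fun h e =>
        h (congrArg _ (Subtype.ext e))
      have hcm : ∀ {u v : H}, (u : G) ∈ A → (v : G) ∈ A →
          Commute (u : H ⧸ Subgroup.center H) v → Commute (u : G) v := fun hu hv =>
        reflect hD hH hu.1 hv.1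
      have hnd := hXnd
      simp only [List.nodup_cons, List.mem_cons, List.not_mem_nil, or_false, not_or,
        List.nodup_nil, and_true] at hnd
      obtain ⟨⟨-, npx1, -, -⟩, ⟨nrx1, -, -⟩, ⟨n12, n13⟩, n23, -⟩ := hnd
      have hco := hX.2.2.2.1
      have hu' : (W : G) * P * R = X₁ * X₂ * X₃ :=
        congrArg Subtype.val (inv_mul_eq_one.1 (Subtype.ext h : (W * P * R)⁻¹ * (X₁ * X₂ * X₃) = 1))
      rcases triple_unique hT hN hF.noTwins2 hWA.1.1 hPA.1.1 hRA.1.1 h1A.1.1 h2A.1.1 h3A.1.1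
        (hcm hWA hPA (by rw [hW, hP]; exact hp.1.2.2))
        (hcm hWA hRA (by rw [hW, hR]; exact hr.2.2))
        (hcm hPA hRA (by rw [hP, hR]; exact hrp.symm))
        (hne (by rw [hW, hP]; exact hp.1.2.1.symm)) (hne (by rw [hW, hR]; exact hr.2.1.symm))
        (hne (by rw [hP, hR]; exact hrp'.2.1.symm))
        (hcm h1A h2A (by rw [h1, h2]; exact hco _ (by simp) _ (by simp)))
        (hcm h1A h3A (by rw [h1, h3]; exact hco _ (by simp) _ (by simp)))
        (hcm h2A h3A (by rw [h2, h3]; exact hco _ (by simp) _ (by simp)))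
        (hne (by rw [h1, h2]; exact n12)) (hne (by rw [h1, h3]; exact n13))
        (hne (by rw [h2, h3]; exact n23)) hu' with e | e | e
      · exact (hXS x₁ (by simp)).2.1 (by rw [← h1, ← hW, Subtype.ext e])
      · exact npx1 (by rw [← h1, ← hP, Subtype.ext e])
      · exact nrx1 (by rw [← h1, ← hR, Subtype.ext e])
    · exact h.symm.trans he
  have hK₀le : K₀ ≤ pairCen d b := by
    rw [Subgroup.closure_le]
    exact fun x hx => mem_pairCen.2 ⟨hx.1.2.2.symm, hx.2.2.symm⟩
  have hA₀ : ∀ {x}, x ∈ A → x ∈ K₀ := fun hx => Subgroup.subset_closure hx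
  have hdK₀ : d ∈ K₀ := by
    rw [hprod]
    exact mul_mem (mul_mem (mul_mem (hA₀ (hmemA R (by simp))) (hA₀ (hmemA P (by simp))))
      (hA₀ (hmemA W (by simp)))) (mul_mem (mul_mem (hA₀ (hmemA X₁ (by simp)))
        (hA₀ (hmemA X₂ (by simp)))) (hA₀ (hmemA X₃ (by simp))))
  have hdH : d ∈ H := hH ▸ (Subgroup.closure_mono fun x hx => hx.1) hdK₀
  have hKH : ∀ g : ↥(pairCen d b), (g : G) ∈ H := by
    intro g
    have := hF.transport.mem_memGroup_of_commute hD hd (mem_pairCen.1 g.2).1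
    refine (?_ : memGroup D d ≤ H) this
    rw [memGroup, Subgroup.closure_le]
    rintro e ⟨he, hde⟩
    rcases eq_or_ne e d with rfl | hne
    · exact hdH
    · exact mem_H hH ⟨he, hne, hde⟩
  let κ : ↥(pairCen d b) →* ↥(Subgroup.centralizer ({B} : Set (H ⧸ Subgroup.center H))) :=
    ((QuotientGroup.mk' _).comp ((pairCen d b).subtype.codRestrict H hKH)).codRestrict _ fun g =>
      Subgroup.mem_centralizer_singleton_iff.2
        ((show Commute (⟨g, hKH g⟩ : H) bH from Subtype.ext (mem_pairCen.1 g.2).2.eq).map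
          (QuotientGroup.mk' _)).eq
  have hκ : ∀ g, (κ g : H ⧸ Subgroup.center H) = ((⟨g, hKH g⟩ : H) : H ⧸ Subgroup.center H) :=
    fun g => rfl
  -- everything is generated by the partners
  have hgen : ∀ q : H ⧸ Subgroup.center H, Commute q B → ∃ y : H, (y : G) ∈ K₀ ∧ (y : H ⧸ _) = q := by
    intro q hq
    have hmem : q ∈ Subgroup.closure (dperp T B) := by
      rw [← centralizer_eq_closure hgrp hfull h22.1 hBT, Subgroup.mem_centralizer_singleton_iff]
      exact hq.eq
    have hle : Subgroup.closure (dperp T B) ≤ (K₀.subgroupOf H).map (QuotientGroup.mk' _) := by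
      refine (Subgroup.closure_le _).2 fun q hq => ?_
      obtain ⟨u, hu, rfl⟩ := hlift q hq
      exact ⟨u, hA₀ hu, rfl⟩
    obtain ⟨y, hy, rfl⟩ := hle hmem
    exact ⟨y, hy, rfl⟩
  have hK : pairCen d b = K₀ := by
    refine le_antisymm (fun g hg => ?_) hK₀le
    obtain ⟨y, hy, hyg⟩ := hgen ((⟨g, hKH ⟨g, hg⟩⟩ : H) : H ⧸ Subgroup.center H)
      ((show Commute (⟨g, hKH ⟨g, hg⟩⟩ : H) bH from Subtype.ext (mem_pairCen.1 hg).2.eq).map
        (QuotientGroup.mk' _))
    have hz : ((y⁻¹ * ⟨g, hKH ⟨g, hg⟩⟩ : H) : H ⧸ Subgroup.center H) = 1 := by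
      rw [QuotientGroup.mk_mul, QuotientGroup.mk_inv, hyg, inv_mul_cancel]
    rcases hcen _ hz with h | h <;> simp only [Subgroup.coe_mul, Subgroup.coe_inv] at h
    · rwa [← inv_mul_eq_one.1 h]
    · rw [show g = (y : G) * ((y : G)⁻¹ * g) by group, h]
      exact mul_mem hy hdK₀
  -- the products of two partners are commutators
  set K' := ⁅pairCen d b, pairCen d b⁆ with hK'
  have hpairK' : ∀ {u v : G}, u ∈ A → v ∈ A → u * v ∈ K' := by
    intro u v hu hv
    set uH : H := ⟨u, mem_H hH hu.1⟩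
    set vH : H := ⟨v, mem_H hH hv.1⟩
    have himg : ∀ (x : H), (x : G) ∈ A → (x : H ⧸ Subgroup.center H) ∈ dperp T B := fun x hx =>
      ⟨⟨⟨x, hx.1, rfl⟩, mk_ne_one hD hd hH hcls hG hN hx.1⟩,
        fun e => hx.2.1 (congrArg Subtype.val
          (eq_of_mk_eq hD hH (v := bH) hx.1 hb (mk_ne_one hD hd hH hcls hG hN hx.1) e)),
        (show Commute bH x from Subtype.ext hx.2.2.eq).map (QuotientGroup.mk' _)⟩
    obtain ⟨k, hk, hkuv⟩ := exists_mv hgrp hfull hBT (himg uH hu) (himg vH hv)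
    obtain ⟨y, hy, hyk⟩ := hgen k (by
      have := centralizer_eq_closure hgrp hfull h22.1 hBT
      rw [← this, Subgroup.mem_centralizer_singleton_iff] at hk
      exact hk)
    have hyK := hK₀le hy
    have hconj : (y : G) * u * (y : G)⁻¹ ∈ A := by
      obtain ⟨h1, h2⟩ := mem_pairCen.1 hyK
      have e1 := dperp_conj hc (y : G) hu.1
      rw [h1.eq, mul_inv_cancel_right] at e1
      have e2 := (commute_conj (y : G) b u).2 hu.2.2
      rw [h2.eq, mul_inv_cancel_right] at e2
      refine ⟨e1, fun e => hu.2.1 ?_, e2⟩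
      have e3 : (y : G) * u * (y : G)⁻¹ = (y : G) * b * (y : G)⁻¹ := by
        rw [e, h2.eq, mul_inv_cancel_right]
      exact mul_left_cancel (mul_right_cancel e3)
    have heq : y * uH * y⁻¹ = vH := hinj _ _ hconj hv (by
      rw [QuotientGroup.mk_mul, QuotientGroup.mk_mul, QuotientGroup.mk_inv, hyk]; exact hkuv)
    have : ⁅u, (y : G)⁆ ∈ K' :=
      Subgroup.commutator_mem_commutator (hK₀le (hA₀ hu)) hyK
    rw [show ⁅u, (y : G)⁆ = u * ((y : G) * u * (y : G)⁻¹) by
      rw [commutatorElement_def, inv_eq hT hu.1.1]; simp only [mul_assoc]] at this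
    rwa [show (y : G) * u * (y : G)⁻¹ = v from congrArg Subtype.val heq] at this
  have hdK' : d ∈ K' := by
    rw [hprod, show R * P * W * (X₁ * X₂ * X₃) = R * P * (W * X₁) * (X₂ * X₃) by
      simp only [mul_assoc]]
    exact mul_mem (mul_mem (hpairK' (hmemA R (by simp)) (hmemA P (by simp)))
      (hpairK' (hmemA W (by simp)) (hmemA X₁ (by simp))))
      (hpairK' (hmemA X₂ (by simp)) (hmemA X₃ (by simp)))
  -- the swap
  have hbK' : b ∈ K' := by
    obtain ⟨a', ha'⟩ := (hF.transport.layerNice d hd).rich b hb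
    obtain ⟨z, hz, hzd, hzb⟩ := hF.transport.move a' ha'.1.1 d (dperp_symm hd ha'.1) b
      ⟨⟨hb.1, ha'.2.1.symm, ha'.2.2.symm⟩, hb.2.1, hb.2.2⟩
    set t := z * b * z * (z * d * z) with ht
    have htd : t * d * t⁻¹ = b := (twist_eq hT hd hb.1 hz.1 d).symm.trans
      (twist_left hT hd hb.1 hz.1 hzd hzb)
    have htb : t * b * t⁻¹ = d := (twist_eq hT hd hb.1 hz.1 b).symm.trans
      (twist_right hT hd hb.1 hz.1 hb.2.2 hzd hzb)
    have hmap : (pairCen d b).map (MulAut.conj t).toMonoidHom ≤ pairCen d b := by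
      rintro - ⟨x, hx, rfl⟩
      obtain ⟨h1, h2⟩ := mem_pairCen.1 hx
      exact mem_pairCen.2 ⟨htb ▸ (commute_conj t x b).2 h2, htd ▸ (commute_conj t x d).2 h1⟩
    have hle : K'.map (MulAut.conj t).toMonoidHom ≤ K' := by
      rw [hK', Subgroup.map_commutator]
      exact Subgroup.commutator_mono hmap hmap
    exact htd ▸ hle ⟨d, hdK', rfl⟩
  have hperf : K' = pairCen d b := by
    refine le_antisymm (Subgroup.commutator_le_self _) ?_
    conv_lhs => rw [hK]
    rw [Subgroup.closure_le]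
    intro u hu
    -- `b` is a product of five partners up to `d`
    obtain ⟨y₀, hy₀⟩ := hfull.data.nice.rich B hBT
    obtain ⟨c₁, hc₁⟩ := (hfull.data.layerNice B hBT).rich y₀ hy₀
    obtain ⟨x₁, x₂, x₃, hX, -, -, hXS⟩ := factor_second hgrp h22.1 hfull.data hBT hy₀ hc₁
    obtain ⟨Y, hY, hY'⟩ := hlift y₀ hy₀
    obtain ⟨C, hC, hC'⟩ := hlift c₁ hc₁.1
    obtain ⟨Z₁, hZ₁, hZ₁'⟩ := hlift x₁ (hXS x₁ (by simp))
    obtain ⟨Z₂, hZ₂, hZ₂'⟩ := hlift x₂ (hXS x₂ (by simp))
    obtain ⟨Z₃, hZ₃, hZ₃'⟩ := hlift x₃ (hXS x₃ (by simp))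
    have hz : ((bH⁻¹ * (Z₁ * Z₂ * Z₃ * C * Y) : H) : H ⧸ Subgroup.center H) = 1 := by
      simp only [QuotientGroup.mk_mul, QuotientGroup.mk_inv, hY', hC', hZ₁', hZ₂', hZ₃']
      have := hX.2.2.2.2
      simp only [List.prod_cons, List.prod_nil, mul_one, ← mul_assoc] at this
      rw [this]
      simp only [mul_assoc, mul_self_mul hgrp.1 hc₁.1.1, mul_self hgrp.1 hy₀.1, mul_one]
      exact inv_mul_cancel _
    have h5 : (Z₁ : G) * Z₂ * Z₃ * C * Y ∈ K' := by
      rcases hcen _ hz with h | h <;> simp only [Subgroup.coe_mul, Subgroup.coe_inv] at h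
      · rwa [← inv_mul_eq_one.1 h]
      · rw [show (Z₁ : G) * Z₂ * Z₃ * C * Y = b * (b⁻¹ * ((Z₁ : G) * Z₂ * Z₃ * C * Y)) by group]
        exact mul_mem hbK' (h.symm ▸ hdK')
    have hY1 : (Y : G) ∈ K' := by
      have h1 := mul_mem (inv_mem (mul_mem (hpairK' hZ₁ hZ₂) (hpairK' hZ₃ hC))) h5
      rwa [show ((Z₁ : G) * Z₂ * ((Z₃ : G) * C))⁻¹ * ((Z₁ : G) * Z₂ * Z₃ * C * Y) = Y by group] at h1
    have h1 := mul_mem (hpairK' hu hY) hY1
    rwa [mul_assoc, mul_self hT hY.1.1, mul_one] at h1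
  refine ⟨hperf, ?_⟩
  obtain ⟨χ, hχ, hχ1⟩ := hquot B hBT
  have hκs : Function.Surjective κ := by
    rintro ⟨q, hq⟩
    obtain ⟨y, hy, hyq⟩ := hgen q (Subgroup.mem_centralizer_singleton_iff.1 hq)
    exact ⟨⟨y, hK₀le hy⟩, Subtype.ext hyq⟩
  refine ⟨χ.comp κ, hχ.comp hκs, fun g => ?_⟩
  have hdmem : d ∈ Subgroup.closure ({d, b} : Set G) := Subgroup.subset_closure (Or.inl rfl)
  have hbmem : b ∈ Subgroup.closure ({d, b} : Set G) := Subgroup.subset_closure (Or.inr rfl)
  rw [MonoidHom.comp_apply, hχ1, hκ]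
  constructor
  · rintro (h | h)
    · rcases hcen _ h with e | e <;> change (g : G) = _ at e <;> rw [e]
      exacts [one_mem _, hdmem]
    · have hz : ((bH⁻¹ * ⟨g, hKH g⟩ : H) : H ⧸ Subgroup.center H) = 1 := by
        rw [QuotientGroup.mk_mul, QuotientGroup.mk_inv, h]; exact inv_mul_cancel _
      rcases hcen _ hz with e | e <;> simp only [Subgroup.coe_mul, Subgroup.coe_inv] at e
      · rwa [← inv_mul_eq_one.1 e]
      · rw [show (g : G) = b * (b⁻¹ * g) by group]
        exact mul_mem hbmem (e.symm ▸ hdmem)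
  · intro hg
    have hBB : B * B = 1 := mul_self hgrp.1 hBT
    let S : Subgroup (H ⧸ Subgroup.center H) := Subgroup.zpowers B
    have hS : ∀ q ∈ S, q = 1 ∨ q = B := by
      intro q hq
      obtain ⟨n, rfl⟩ := Subgroup.mem_zpowers_iff.1 hq
      rcases Int.even_or_odd n with ⟨m, rfl⟩ | ⟨m, rfl⟩
      · exact Or.inl (by rw [zpow_add, ← (Commute.refl B).mul_zpow, hBB, one_zpow])
      · exact Or.inr (by rw [zpow_add, zpow_one, zpow_mul, zpow_ofNat, sq, hBB, one_zpow, one_mul])
    refine hS _ ?_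
    have hle : Subgroup.closure ({d, b} : Set G) ≤
        ((S.comap (QuotientGroup.mk' _)).map H.subtype) := by
      rw [Subgroup.closure_le]
      rintro x (rfl | rfl)
      · refine ⟨⟨x, hdH⟩, ?_, rfl⟩
        show ((⟨x, hdH⟩ : H) : H ⧸ Subgroup.center H) ∈ S
        rw [(mk_eq_one_iff hH).2 fun e he => he.2.2]
        exact one_mem _
      · exact ⟨bH, Subgroup.mem_zpowers B, rfl⟩
    obtain ⟨x, hx, hxg⟩ := hle hg
    rw [show (⟨g, hKH g⟩ : H) = x from Subtype.ext hxg.symm]
    exact hx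

end

/-! ### from Cfsg.Agent.ThreeTrans.BaseM23 -/

section

open scoped commutatorElement

/-- In type M(23) every member has such a cover. -/
theorem exists_cover23 {G : Type u} [Group G] [Finite G] {D : Set G}
    (hD : IsThreeTranspositionGroup D) (hprim : IsPrimitiveUnderConj D) (h : L23 G D) :
    ∃ (X : Type u) (_ : Group X) (_ : Finite X) (E : Set X), IsThreeTranspositionGroup E ∧
      IsThreeTranspositionClass E ∧ IsOfTypeM22 X E ∧ ∀ b ∈ D, Cover23 D E b := by
  classical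
  have hT := hD.1
  have hc := hD.2.1
  have hF := m23Data hD hprim h
  have hcls := class_of_primitive hD hprim
  obtain ⟨d', hd', F, _, _, -, hpair⟩ := pair_base hD hprim h
  obtain ⟨hZ, d, hd, c, -, -, h22, -⟩ := h
  set H := Subgroup.closure {y : G | y ∈ D ∧ y ≠ d ∧ Commute d y}
  have hH : H = Subgroup.closure (dperp D d) := rfl
  have hgrp := lowImage_group hD hH
  obtain ⟨⟨hcls', hG, hN⟩, -, -⟩ := layerData_of_M22 (D₀ := lowImage H (dperp D d)) hgrp h22
  obtain ⟨hG', -, -⟩ := layerData_of_M22 (D₀ := lowImage H (dperp D d)) hgrp h22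
  set E := lowImage H (dperp D d) \ {1} with hEdef
  -- members are commutators in their centralisers
  have hdd : ∀ b ∈ D, b ∈ ⁅Subgroup.centralizer ({b} : Set G), Subgroup.centralizer ({b} : Set G)⁆ := by
    intro b hb
    obtain ⟨g, hg⟩ := class_isConj hcls hd' hb
    obtain ⟨u, hu⟩ := hF.nice.rich d' hd'
    obtain ⟨hperf, -⟩ := hpair u hu
    have hle : (pairCen d' u).map (MulAut.conj g).toMonoidHom ≤ Subgroup.centralizer ({b} : Set G) := by
      rintro - ⟨x, hx, rfl⟩
      refine Subgroup.mem_centralizer_singleton_iff.2 ?_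
      show g * x * g⁻¹ * b = b * (g * x * g⁻¹)
      rw [← hg]
      exact ((commute_conj g x d').2 (mem_pairCen.1 hx).1).eq
    have hmem : g * d' * g⁻¹ ∈ (pairCen d' u).map (MulAut.conj g).toMonoidHom :=
      ⟨d', mem_pairCen.2 ⟨Commute.refl d', hu.2.2⟩, rfl⟩
    rw [hg, ← hperf, Subgroup.map_commutator] at hmem
    exact Subgroup.commutator_mono hle hle hmem
  have hdH : d ∈ H := by
    obtain ⟨u, hu⟩ := hF.nice.rich d' hd'
    obtain ⟨g, hg⟩ := class_isConj hcls hd hd'
    -- `d` commutes with its own centraliser, which is generated by members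
    have h1 := hdd d hd
    have hle : Subgroup.centralizer ({d} : Set G) ≤ memGroup D d := fun x hx =>
      hF.transport.mem_memGroup_of_commute hD hd (Subgroup.mem_centralizer_singleton_iff.1 hx)
    have h2 : ⁅Subgroup.centralizer ({d} : Set G), Subgroup.centralizer ({d} : Set G)⁆ ≤ H := by
      refine Subgroup.commutator_le.2 fun x hx y hy => ?_
      have hstep : ∀ x ∈ memGroup D d, ∃ k ∈ H, x = k ∨ x = k * d := by
        intro x hx
        have hdd1 : d * d = 1 := mul_self hT hd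
        have hcomm : ∀ k ∈ H, Commute d k := fun k hk => commute_of_mem_H hH hk
        induction hx using Subgroup.closure_induction_left with
        | one => exact ⟨1, one_mem _, Or.inl rfl⟩
        | mul_left e he y _ ih =>
          obtain ⟨k, hk, hy'⟩ := ih
          rcases eq_or_ne e d with rfl | hne
          · rcases hy' with rfl | rfl
            · exact ⟨y, hk, Or.inr (hcomm y hk).eq⟩
            · exact ⟨k, hk, Or.inl (by rw [← mul_assoc, (hcomm k hk).eq, mul_assoc, hdd1, mul_one])⟩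
          · refine ⟨e * k, mul_mem (mem_H hH ⟨he.1, hne, he.2⟩) hk, ?_⟩
            rcases hy' with rfl | rfl
            · exact Or.inl rfl
            · exact Or.inr (mul_assoc _ _ _).symm
        | inv_mul_cancel e he y _ ih =>
          obtain ⟨k, hk, hy'⟩ := ih
          rw [inv_eq hT he.1]
          rcases eq_or_ne e d with rfl | hne
          · rcases hy' with rfl | rfl
            · exact ⟨y, hk, Or.inr (hcomm y hk).eq⟩
            · exact ⟨k, hk, Or.inl (by rw [← mul_assoc, (hcomm k hk).eq, mul_assoc, hdd1, mul_one])⟩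
          · refine ⟨e * k, mul_mem (mem_H hH ⟨he.1, hne, he.2⟩) hk, ?_⟩
            rcases hy' with rfl | rfl
            · exact Or.inl rfl
            · exact Or.inr (mul_assoc _ _ _).symm
      obtain ⟨k, hk, hx'⟩ := hstep x (hle hx)
      obtain ⟨l, hl, hy'⟩ := hstep y (hle hy)
      have e : ⁅x, y⁆ = ⁅k, l⁆ := by
        have hk' := commute_of_mem_H hH hk
        have hl' := commute_of_mem_H hH hl
        have hd' : d⁻¹ = d := inv_eq hT hd
        simp only [commutatorElement_def]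
        rcases hx' with rfl | rfl <;> rcases hy' with rfl | rfl <;>
          simp only [mul_inv_rev, hd', mul_assoc]
        · rw [hk'.inv_right.left_comm, mul_self_mul hT hd]
        · rw [← hl'.left_comm, mul_self_mul hT hd]
        · rw [hl'.left_comm, mul_self_mul hT hd, hk'.inv_right.left_comm, mul_self_mul hT hd]
      rw [e, commutatorElement_def]
      exact mul_mem (mul_mem (mul_mem hk hl) (inv_mem hk)) (inv_mem hl)
    exact h2 h1
  have hcen : Subgroup.centralizer ({d} : Set G) = H := by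
    refine le_antisymm (fun x hx => ?_) fun x hx => Subgroup.mem_centralizer_singleton_iff.2
      (commute_of_mem_H hH hx).eq.symm
    refine (?_ : memGroup D d ≤ H)
      (hF.transport.mem_memGroup_of_commute hD hd (Subgroup.mem_centralizer_singleton_iff.1 hx))
    rw [memGroup, Subgroup.closure_le]
    rintro e ⟨he, hde⟩
    rcases eq_or_ne e d with rfl | hne
    · exact hdH
    · exact mem_H hH ⟨he, hne, hde⟩
  have hker : ∀ y : H, (y : H ⧸ Subgroup.center H) = 1 ↔ ((y : G) = 1 ∨ (y : G) = d) := by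
    intro y
    constructor
    · intro hy
      exact eq_one_or_eq_of_centralises' hD hZ hF.nice hF.trace hF.hyp hd
        (commute_of_mem_H hH y.2).symm ((mk_eq_one_iff hH).1 hy)
    · rintro (hy | hy) <;> refine (mk_eq_one_iff hH).2 fun e he => ?_ <;> rw [hy]
      · exact Commute.one_left e
      · exact he.2.2
  let φ : G → H ⧸ Subgroup.center H := fun u =>
    if h : u ∈ H then ((⟨u, h⟩ : H) : H ⧸ Subgroup.center H) else 1
  have hφ : ∀ u : H, φ u = (u : H ⧸ Subgroup.center H) := fun u => dif_pos u.2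
  have hφ' : ∀ u (hu : u ∈ dperp D d), φ u = ((⟨u, mem_H hH hu⟩ : H) : H ⧸ Subgroup.center H) :=
    fun u hu => dif_pos (mem_H hH hu)
  have hne : ∀ {u : H}, (u : G) ∈ dperp D d → (u : H ⧸ Subgroup.center H) ≠ 1 := fun hu =>
    mk_ne_one hD hd hH hcls hG' hF.noTwins hu
  have hiso : SetIso (dperp D d) E φ := by
    refine ⟨⟨fun u hu => ?_, fun u hu v hv huv => ?_, ?_⟩, fun u hu v hv => ?_, fun u hu v hv => ?_⟩
    · rw [hφ' u hu]
      exact ⟨⟨_, hu, rfl⟩, hne hu⟩
    · rw [hφ' u hu, hφ' v hv] at huv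
      exact congrArg Subtype.val (eq_of_mk_eq hD hH (u := ⟨u, mem_H hH hu⟩)
        (v := ⟨v, mem_H hH hv⟩) hu hv (hne hu) huv)
    · rintro - ⟨⟨x, hx, rfl⟩, -⟩
      exact ⟨x, hx, hφ x⟩
    · rw [hφ' u hu, hφ' v hv]
      exact ⟨reflect hD hH (u := ⟨u, mem_H hH hu⟩) (v := ⟨v, mem_H hH hv⟩) hu hv, fun h =>
        (show Commute (⟨u, mem_H hH hu⟩ : H) ⟨v, mem_H hH hv⟩ from Subtype.ext h.eq).map
          (QuotientGroup.mk' _)⟩
    · rw [hφ' u hu, hφ' v hv, hφ' _ (((closedSet_of_group hD).dperp d).conj u hu v hv)]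
      rfl
  refine ⟨H ⧸ Subgroup.center H, inferInstance, inferInstance, E, hgrp, hcls',
    isOfTypeM22_diff h22, fun b hb => ?_⟩
  obtain ⟨g, hg⟩ := class_isConj hcls hb hd
  have hmem : ∀ {x : G}, x ∈ Subgroup.centralizer ({b} : Set G) ↔ g * x * g⁻¹ ∈ H := by
    intro x
    rw [← hcen, Subgroup.mem_centralizer_singleton_iff, Subgroup.mem_centralizer_singleton_iff, ← hg]
    exact (commute_conj g x b).symm
  set C := Subgroup.centralizer ({b} : Set G)
  let ε : ↥C →* H :=
    MonoidHom.mk' (fun x => ⟨g * x * g⁻¹, hmem.1 x.2⟩) fun x y => Subtype.ext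
      (show g * ((x : G) * y) * g⁻¹ = g * (x : G) * g⁻¹ * (g * (y : G) * g⁻¹) by group)
  have hε : Function.Surjective ε := fun y => ⟨⟨g⁻¹ * y * g, hmem.2 (by
    rw [show g * (g⁻¹ * (y : G) * g) * g⁻¹ = y by group]; exact y.2)⟩,
      Subtype.ext (show g * (g⁻¹ * (y : G) * g) * g⁻¹ = y by group)⟩
  set χ := (QuotientGroup.mk' (Subgroup.center H)).comp ε
  have hχ : Function.Surjective χ := (QuotientGroup.mk'_surjective _).comp hε
  have hχker : ∀ x, χ x = 1 ↔ ((x : G) = 1 ∨ (x : G) = b) := fun x => by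
    rw [MonoidHom.comp_apply, QuotientGroup.mk'_apply, hker]
    show g * (x : G) * g⁻¹ = 1 ∨ g * (x : G) * g⁻¹ = d ↔ _
    rw [← hg, conj_eq_one_iff]
    exact or_congr Iff.rfl ⟨fun h => mul_left_cancel (mul_right_cancel h), fun h => by rw [h]⟩
  have hmapH : (Subgroup.closure (dperp D b)).map (MulAut.conj g).toMonoidHom = H := by
    rw [MonoidHom.map_closure, hH]
    congr 1
    exact (hg ▸ setIso_conj hc g b).bij.image_eq
  refine ⟨?_, ?_, χ, φ ∘ fun x => g * x * g⁻¹, hχ, hχker, fun x => hφ (ε x),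
    (hg ▸ setIso_conj hc g b).trans hiso⟩
  · ext x
    rw [hmem, ← hmapH]
    exact ⟨fun ⟨y, hy, hyx⟩ => mul_left_cancel (mul_right_cancel hyx) ▸ hy, fun hx => ⟨x, hx, rfl⟩⟩
  · refine le_antisymm (Subgroup.commutator_le_self C) fun x hx => ?_
    have htop : (⁅(⊤ : Subgroup C), (⊤ : Subgroup C)⁆).map χ = ⊤ := by
      rw [Subgroup.map_commutator, Subgroup.map_top_of_surjective χ hχ, ← commutator_def]
      exact perfect_M22 hgrp (isOfTypeM22_diff h22)
    obtain ⟨y, hy, hyx⟩ : χ ⟨x, hx⟩ ∈ (⁅(⊤ : Subgroup C), (⊤ : Subgroup C)⁆).map χ := htop ▸ Subgroup.mem_top _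
    have hy' : (y : G) ∈ ⁅C, C⁆ := by
      have := Subgroup.mem_map_of_mem C.subtype hy
      rwa [Subgroup.map_commutator, ← MonoidHom.range_eq_map, Subgroup.range_subtype] at this
    rcases (hχker (y⁻¹ * ⟨x, hx⟩)).1 (by rw [map_mul, map_inv, hyx, inv_mul_cancel]) with h' | h' <;>
      rw [Subgroup.coe_mul, Subgroup.coe_inv] at h'
    · exact (inv_mul_eq_one.1 h' : (y : G) = x) ▸ hy'
    · rw [show x = (y : G) * b from inv_mul_eq_iff_eq_mul.1 h']
      exact mul_mem hy' (hdd b hb)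

end

/-! ### from Cfsg.Agent.ThreeTrans.Y342.Iso -/

section

open Cfsg.Agent.ThreeTrans.Y342

open Cfsg.Spor Cfsg.Spor.Fi23 Y332

variable {G : Type u} [Group G] [Finite G] {D : Set G}

/-- Every group of type M(23) is isomorphic to the presented Fi₂₃, the generators going to members. -/
theorem exists_iso (hD : IsThreeTranspositionGroup D) (hprim : IsPrimitiveUnderConj D)
    (h23 : L23 G D) : ∃ e : Spor.Fi23 ≃* G, ∀ x : Gen, e (PresentedGroup.of x) ∈ D := by
  have hcls := class_of_primitive hD hprim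
  have hM := m23Data hD hprim h23
  obtain ⟨X, _, _, E, hE, hclsE, h22, hcov⟩ := exists_cover23 hD hprim h23
  obtain ⟨-, d₀, hd₀, c₀, hc₀, hnc₀, -⟩ := id h23
  obtain ⟨n, w, j, hw, hj, hwj, hn, hnw, hnj⟩ := exists_cfg hD hE h22 hcov hd₀ hc₀ hnc₀
  have hr := hn.rels hD
  obtain ⟨χ, ψ, -, hker, hψχ, hψ⟩ := (hcov w hw).maps
  set m : ℕ → X := ψ ∘ n with hm
  have hmc : Cfg E m := ⟨fun x hx => hψ.bij.mapsTo (hnw x hx), fun x hx y hy =>
    (hψ.comm _ (hnw x hx) _ (hnw y hy)).trans (hn.comm x hx y hy)⟩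
  have hev : ∀ v : List ℕ, (∀ x ∈ v, x < 9) → ∃ h : ev n v ∈ Subgroup.centralizer ({w} : Set G),
      χ ⟨ev n v, h⟩ = ev m v := by
    intro v
    induction v with
    | nil => exact fun _ => ⟨one_mem _, map_one χ⟩
    | cons x v ih =>
      intro hv
      simp only [List.mem_cons, forall_eq_or_imp] at hv
      obtain ⟨h, he⟩ := ih hv.2
      have hx : n x ∈ Subgroup.centralizer ({w} : Set G) :=
        Subgroup.mem_centralizer_singleton_iff.2 (hnw x hv.1).2.2.symm.eq
      refine ⟨by rw [ev_cons]; exact mul_mem hx h, ?_⟩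
      show χ (⟨n x, hx⟩ * ⟨ev n v, h⟩) = m x * ev m v
      rw [map_mul, he, show m x = χ ⟨n x, hx⟩ from hψχ ⟨n x, hx⟩]
  have hone : ∀ v : List ℕ, (∀ x ∈ v, x < 9) → ev m v = 1 → ev n v = 1 ∨ ev n v = w := by
    intro v hv h1
    obtain ⟨h, he⟩ := hev v hv
    exact (hker ⟨_, h⟩).1 (he.trans h1)
  -- the relation on `a b c d e f h`
  have hx' : ev n wx' ^ 9 = 1 := by
    rw [← ev_pw]
    refine (hone _ (by decide) (pow_x' hE h22 hmc).1).resolve_right fun h => hwj ?_
    rw [← h]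
    have hcm : ∀ v : List ℕ, (∀ x ∈ v, x < 9 ∧ x ≠ 6) → Commute (ev n v) j := by
      intro v
      induction v with
      | nil => exact fun _ => Commute.one_left j
      | cons x v ih =>
        intro hv
        simp only [List.mem_cons, forall_eq_or_imp] at hv
        rw [ev_cons]
        exact ((hnj x hv.1.1).2 hv.1.2).mul_left (ih hv.2)
    rw [ev_pw]
    exact (hcm wx' wx'_ne).pow_left 9
  -- the spider relation
  have hθD : ev n wθ ∈ D := by
    have hU : ∀ x ∈ [7, 3, 4, 2, 3, 7, 5, 4, 3, 2], x < 9 := by decide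
    rw [wθ_eq]
    generalize [7, 3, 4, 2, 3, 7, 5, 4, 3, 2] = U at hU ⊢
    rw [ev_append, ev_cons, ev_reverse hr hU, ← mul_assoc]
    exact hD.2.1 _ _ (hn.mem 1 (by norm_num))
  have hθ : ¬ Commute (n 8) (ev n wθ) := by
    intro h
    obtain ⟨h1, e1⟩ := hev wθ (by decide)
    refine (moved_theta hE h22 hmc).2 ?_
    rw [← e1, show m 8 = χ ⟨n 8, Subgroup.mem_centralizer_singleton_iff.2 (hnw 8 (by norm_num)).2.2.symm.eq⟩
      from hψχ ⟨n 8, _⟩]
    exact Commute.map (Subtype.ext h.eq) χ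
  have ht0 : ev n t0 ^ 3 = 1 := by
    rw [t0, ev_cons]
    exact cube_of_not_commute hD.1 (hn.mem 8 (by norm_num)) hθD hθ
  have hspider : ev n ws ^ 10 = 1 := by
    rw [← ev_pw]
    refine (hone _ ws_lt (by rw [ev_pw]; exact pow_spider hE h22 hmc)).resolve_right fun h => ?_
    have h3 := cube_spider hr (cube_t_of hr ht0)
    rw [h, mul_self hD.1 hw, one_mul] at h3
    exact ne_one hD.1 hw h3
  set f : Gen → G := fun x => if num x = 9 then j else n (num x) with hf
  have hfD : ∀ x, f x ∈ D := fun x => by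
    rcases num_cases x with h | h
    · simp only [hf, h, if_true]; exact hj
    · simp only [hf, if_neg (by omega : num x ≠ 9)]; exact hn.mem _ h
  have hcomm : ∀ x y, Commute (f x) (f y) ↔ (x = y ∨ adj10 (num x) (num y) = false) := by
    intro x y
    have hinj : num x = num y → x = y := by cases x <;> cases y <;> simp [num]
    rcases num_cases x with hx | hx <;> rcases num_cases y with hy | hy
    · simp [hf, hx, hy, hinj (hx.trans hy.symm), Commute.refl]
    · simp only [hf, hx, if_true, if_neg (by omega : num y ≠ 9), adj10]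
      rw [Commute.symm_iff, hnj _ hy]
      have hne : x ≠ y := fun e => by subst e; omega
      simp [hne]
    · simp only [hf, hy, if_true, if_neg (by omega : num x ≠ 9), adj10]
      rw [hnj _ hx]
      have hne : x ≠ y := fun e => by subst e; omega
      simp [hne]
    · simp only [hf, if_neg (by omega : num x ≠ 9), if_neg (by omega : num y ≠ 9), adj10]
      rw [hn.comm _ hx _ hy]
      refine ⟨Or.inr, ?_⟩
      rintro (rfl | h)
      · cases x <;> first | rfl | simp [num] at hx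
      · exact h
  have hrel : ∀ r ∈ coxRelators edges ∪ {r | r ∈ extra}, FreeGroup.lift f r = 1 := by
    rintro r (⟨x, -, y, -, rfl⟩ | hr')
    · rw [map_pow, map_mul, FreeGroup.lift_apply_of, FreeGroup.lift_apply_of, label_eq]
      split_ifs with hxy hadj
      · subst hxy
        rw [pow_one]
        exact mul_self hD.1 (hfD x)
      · refine cube_of_not_commute hD.1 (hfD x) (hfD y) fun h => ?_
        rcases (hcomm x y).1 h with h | h
        · exact hxy h
        · rw [h] at hadj; simp at hadj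
      · have h : Commute (f x) (f y) := (hcomm x y).2 (Or.inr (by simpa using hadj))
        rw [h.mul_pow, pow_two, pow_two, mul_self hD.1 (hfD x), one_mul, mul_self hD.1 (hfD y)]
    · simp only [extra, List.mem_cons, List.not_mem_nil, or_false, Set.mem_ofPred_eq] at hr'
      rcases hr' with rfl | rfl
      · simp only [map_pow, map_mul, FreeGroup.lift_apply_of, hf, num]
        simpa [ev, ws, mul_assoc] using hspider
      · simp only [map_pow, map_mul, FreeGroup.lift_apply_of, hf, num]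
        have hinv : ev n [7, 0, 1, 2, 3, 4, 5] ^ 9 = 1 := by
          rw [show [7, 0, 1, 2, 3, 4, 5] = wx'.reverse from rfl, ev_reverse hr (by decide), inv_pow,
            hx', inv_one]
        have e : n 0 * n 1 * n 2 * n 3 * n 4 * n 5 * n 7 =
            n 7 * ev n [7, 0, 1, 2, 3, 4, 5] * (n 7)⁻¹ := by
          rw [inv_eq_of_mul_eq_one_right (hr.sq 7 (by norm_num))]
          simp only [ev_cons, ev_nil, mul_one, ← mul_assoc]
          rw [hr.sq 7 (by norm_num), one_mul]
        simp only [show (0 : ℕ) ≠ 9 from by decide, show (1 : ℕ) ≠ 9 from by decide,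
          show (2 : ℕ) ≠ 9 from by decide, show (3 : ℕ) ≠ 9 from by decide,
          show (4 : ℕ) ≠ 9 from by decide, show (5 : ℕ) ≠ 9 from by decide,
          show (7 : ℕ) ≠ 9 from by decide, if_false]
        rw [e, conj_pow, hinv, mul_one, mul_inv_cancel]
  set φ := PresentedGroup.toGroup hrel
  have hφ : ∀ x, φ (PresentedGroup.of x) = f x := fun x => PresentedGroup.toGroup.of hrel
  obtain ⟨hsimp, hcard⟩ := CosetCert.Fi23Order.order_and_simple
  have : IsSimpleGroup Spor.Fi23 := hsimp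
  have hinj : Function.Injective φ := by
    rw [← MonoidHom.ker_eq_bot_iff]
    refine (φ.normal_ker.eq_bot_or_eq_top).resolve_right fun h => ?_
    refine ne_one hD.1 (hfD Gen.a) ?_
    have h' : PresentedGroup.of Gen.a ∈ φ.ker := h ▸ Subgroup.mem_top _
    rwa [MonoidHom.mem_ker, hφ] at h'
  have hG : Nat.card G = Nat.card Spor.Fi23 := by
    rw [hcard, card_M23 hD hcls hM hE hclsE h22 hcov hw]
    norm_num
  have hbij : Function.Bijective φ :=
    (Nat.bijective_iff_injective_and_card φ).2 ⟨hinj, hG.symm⟩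
  exact ⟨MulEquiv.ofBijective φ hbij, fun x => by
    rw [MulEquiv.ofBijective_apply, hφ]; exact hfD x⟩

end

end Cfsg.Agent.ThreeTrans.Steps.L23
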