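import Cfsg.Agent.ThreeTrans.Steps.Common
import Cfsg.Agent.ThreeTrans.Steps.L23
import Cfsg.Agent.FischerTypes.M23

/-!
# From type M(22) to type M(23)
-/

set_option autoImplicit false

open Cfsg

namespace Cfsg.Agent.ThreeTrans.Steps

variable {G : Type*} [Group G] [Finite G] {D : Set G}

/-- The step from M(22) to M(23). -/
theorem m23_step (hD : IsThreeTranspositionGroup D) (hprim : IsPrimitiveUnderConj D)
    (hZ : Subgroup.center G = ⊥) {d : G} (hd : d ∈ D)
    (h : IsOfTypeM22 (↥(Subgroup.closure {y : G | y ∈ D ∧ y ≠ d ∧ Commute d y}) ⧸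
        Subgroup.center ↥(Subgroup.closure {y : G | y ∈ D ∧ y ≠ d ∧ Commute d y}))
      ((QuotientGroup.mk : ↥(Subgroup.closure {y : G | y ∈ D ∧ y ≠ d ∧ Commute d y}) → _) ''
        {x : ↥(Subgroup.closure {y : G | y ∈ D ∧ y ≠ d ∧ Commute d y}) |
          (x : G) ∈ {y : G | y ∈ D ∧ y ≠ d ∧ Commute d y}})) :
    IsOfTypeM23 G D := by
  obtain ⟨hcls, hcls1, c, hc, hdc⟩ := class_and_moved hD hprim hd
  have h23 : L23.L23 G D := ⟨hZ, d, hd, c, hc, hdc, h, 1, by decide, hcls1⟩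
  obtain ⟨f, hf⟩ := L23.exists_iso hD hprim h23
  have h' := FischerTypes.m23_transfer f FischerTypes.F23.isM23
  have hg : (PresentedGroup.of (Fi23Out.letter 0) : FischerTypes.F23.G) ∈ FischerTypes.F23.D := by
    show Fi23Out.gen 0 ∈ FischerTypes.F23.D
    rw [Fi23Out.gen_eq_tau 0 (by norm_num)]
    exact FischerTypes.F23.tau_mem (Fi23Out.pt_lt 0 (by norm_num))
  have he : f '' FischerTypes.F23.D = D := image_class f hcls hg (hf _)
  rw [he] at h'
  exact h'

end Cfsg.Agent.ThreeTrans.Steps
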