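import Cfsg.Agent.ThreeTrans.Y542.Iso

/-!
# The chain to `Y542.Iso` with the last component of `IsOfTypeM24` replaced by the class

The proofs are those of the files named in the sections, read for `L24`.
-/

set_option autoImplicit false
set_option maxRecDepth 100000

open Cfsg

universe u

namespace Cfsg.Agent.ThreeTrans.Steps.L24

/-- What is used of `IsOfTypeM24`: the lower part. -/
def L24 (X : Type*) [Group X] (D₀ : Set X) : Prop :=
  Subgroup.center X = ⊥ ∧ ∃ d ∈ D₀, ∃ c ∈ D₀, ¬ Commute d c ∧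
    IsOfTypeM23 (↥(Subgroup.closure {y : X | y ∈ D₀ ∧ y ≠ d ∧ Commute d y}) ⧸ Subgroup.center ↥(Subgroup.closure {y : X | y ∈ D₀ ∧ y ≠ d ∧ Commute d y}))
      ((QuotientGroup.mk : ↥(Subgroup.closure {y : X | y ∈ D₀ ∧ y ≠ d ∧ Commute d y}) → _) ''
        {x : ↥(Subgroup.closure {y : X | y ∈ D₀ ∧ y ≠ d ∧ Commute d y}) | (x : X) ∈ {y : X | y ∈ D₀ ∧ y ≠ d ∧ Commute d y}}) ∧ True


/-! ### from Cfsg.Agent.ThreeTrans.BaseM24 -/

section

section

variable {X : Type u} [Group X] [Finite X] {E : Set X}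

end

theorem exists_base24 {G : Type u} [Group G] [Finite G] {D : Set G}
    (hD : IsThreeTranspositionGroup D) (hprim : IsPrimitiveUnderConj D) (h : L24 G D) :
    ∃ (X : Type u) (_ : Group X) (_ : Finite X) (E : Set X), M24Base D E := by
  obtain ⟨hZ, d, hd, c, hc, hdc, h23, -⟩ := h
  set H := Subgroup.closure {y : G | y ∈ D ∧ y ≠ d ∧ Commute d y}
  have hH : H = Subgroup.closure (dperp D d) := rfl
  have hgrp := lowImage_group hD hH
  obtain ⟨hG, -, -⟩ := layerData_of_M23 (D₀ := lowImage H (dperp D d)) hgrp h23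
  have hU := nice_of_M23 (D₀ := lowImage H (dperp D d)) hgrp h23
  have hcls := class_of_primitive hD hprim
  have hN := noTwins_of_primitive hD.2.1 hprim ⟨d, hd, c, hc, hdc⟩
  have h23' := isOfTypeM23_of_eq (lowImage_diff hD hd hH hcls hG hN) h23
  have hrich := rich_of_layer hD hd hH hcls hG hN
  have hw := exists_pair_of_rich hrich hd
  obtain ⟨h2, h3, hconn⟩ := primitive_facts hD hprim hw
  obtain ⟨L, hLn, hLq, -, -⟩ := exists_quasisimple hcls hprim.2.1 h2 h3
  have hidx := index_le_two hcls hprim.2.1 h2 h3 hLq hconn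
  have hperf := perfect_derived hLq hidx
  have hsol : ∀ M : Subgroup G, M.Normal → M ≤ commutator G → Group.IsSolvable M → M = ⊥ :=
    fun M hM hle hs => eq_bot_iff.2 (hZ ▸ solvable_le_center hcls hprim.2.1 h2 h3 hLq hidx hM hle hs)
  have hdiam : Diam D := fun a ha b hb hab => exists_common hsol hperf hcls ha hb hab
  have hS := closedSet_of_group hD
  have hnice := nice_of_layers hS (sep_of_class hcls hN) hrich hdiam
    fun t ht => nice_layer hD hd hH hcls hG hN hU ht
  have hiso : ∀ a ∈ D, ∃ φ, SetIso (dperp D a) (lowImage H (dperp D d) \ {1}) φ := fun a ha =>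
    exists_layer_iso hD hd hH hcls hG hN ha
  have hM := m23Data hgrp (prim_M23 hgrp h23') h23'
  refine ⟨_, inferInstance, inferInstance, _, ⟨hsol, hperf, hcls, hN, hnice, ?_, ?_, hgrp, h23', hiso,
    d, hd, QuotientGroup.mk' (Subgroup.center ↥H), QuotientGroup.mk'_surjective (Subgroup.center ↥H), QuotientGroup.ker_mk' (Subgroup.center ↥H),
    exists_base_iso hD hd hH hcls hG hN⟩⟩
  · exact trace_of_layers hdiam fun t ht => by
      obtain ⟨φ, hφ⟩ := hiso t ht
      exact hφ.trace hM.trace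
  · intro t ht
    obtain ⟨φ, hφ⟩ := hiso t ht
    exact hφ.hyp (hS.dperp t) (hyp_M23 hgrp h23')

end

/-! ### from Cfsg.Agent.ThreeTrans.Y542.Config -/

section

open Cfsg.Agent.ThreeTrans.Y542

open Y332 (ev ev_append ev_cons ev_nil pw)

variable {G : Type u} [Group G] [Finite G] {D : Set G}

/-- A chart at `l` and a member `k` with the pattern of the graph. -/
theorem exists_cfg24 (hD : IsThreeTranspositionGroup D) (hprim : IsPrimitiveUnderConj D)
    (h24 : L24 G D) :
    ∃ (φ : G →* ℤˣ) (l k : G) (g : ℕ → G) (θ : ↥(Subgroup.centralizer ({l} : Set G)) →* F23),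
      IsChart D φ l g θ ∧ k ∈ D ∧ ¬ Commute k l ∧ ∀ x < 10, (Commute k (g x) ↔ x ≠ 0) := by
  have hZ : Subgroup.center G = ⊥ := h24.1
  obtain ⟨l, hl, -⟩ := h24.2
  obtain ⟨X, _, _, E, hB⟩ := exists_base24 hD hprim h24
  obtain ⟨φ, hφ⟩ := exists_sign24 hD hZ hB
  obtain ⟨g, θ, hC⟩ := exists_chart hD hZ hB hφ hl
  have hg1 : ∀ x, ev g [x] = g x := fun x => by simp
  set w := ev g wW with hw
  have hwl : w ∈ dperp D l := hC.word_mem hD pathW 0
  have hlw : l ∈ dperp D w := dperp_symm hl hwl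
  obtain ⟨χ, ψ, -, hker, hagree, hiso⟩ := (cover24 hD hZ hB hwl.1).maps
  -- the nine generators, reversed, in the layer of `w`
  set p : ℕ → G := fun x => g (tn (Fi22Out.sigma x)) with hp
  have hpw : ∀ x < 9, p x ∈ dperp D w := by
    intro x hx
    have h := List.all_eq_true.1 end_checks x (List.mem_range.2 hx)
    simp only [Bool.and_eq_true] at h
    refine ⟨(hC.mem _).1, fun e => ?_, ?_⟩
    · refine hC.ev_ne (u := [tn (Fi22Out.sigma x)]) (v := wW) ?_ (by decide +kernel) h.2
        (by rw [hg1]; exact e)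
      have := h.1
      simp only [cmCheck, Bool.and_eq_true] at this
      exact this.1.1
    · have := hC.commute_ev h.1
      rw [hg1] at this
      exact this.symm
  set y : ℕ → X := fun x => ψ (p x) with hy
  have hcfg : Y332.Cfg E y := by
    refine ⟨fun x hx => hiso.bij.mapsTo (hpw x hx), fun x hx x' hx' => ?_⟩
    rw [hy, hiso.comm _ (hpw x hx) _ (hpw x' hx')]
    have h := List.all_eq_true.1 (List.all_eq_true.1 adjσ_checks x (List.mem_range.2 hx)) x'
      (List.mem_range.2 hx')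
    split_ifs at h with hadj
    · refine iff_of_false ?_ (by simp [hadj])
      have := hC.not_commute_ev h
      rwa [hg1, hg1] at this
    · refine iff_of_true ?_ (by simpa using hadj)
      have := hC.commute_ev h
      rwa [hg1, hg1] at this
  set L := ψ l
  have hL : L ∈ E := hiso.bij.mapsTo hlw
  have hyL : ∀ x < 9, y x ∈ dperp E L := fun x hx =>
    ⟨hiso.bij.mapsTo (hpw x hx), fun e => (hC.mem _).2.1 (hiso.bij.injOn (hpw x hx) hlw e),
      (hiso.comm _ hlw _ (hpw x hx)).2 (hC.mem _).2.2⟩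
  have hwlt : ∀ x ∈ pw Y332.wx' 9, x < 9 := by decide
  have hx' : ev y (pw Y332.wx' 9) = 1 := by
    have key : ∀ v : List ℕ, (∀ x ∈ v, x < 9) → ∃ h : ev g (v.map (tn ∘ Fi22Out.sigma)) ∈
        Subgroup.centralizer ({w} : Set G), χ ⟨_, h⟩ = ev y v := by
      intro v
      induction v with
      | nil => exact fun _ => ⟨one_mem _, map_one χ⟩
      | cons x v ih =>
        intro hv
        simp only [List.mem_cons, forall_eq_or_imp] at hv
        obtain ⟨h, he⟩ := ih hv.2
        refine ⟨mul_mem (dperp_le (hpw x hv.1)) h, ?_⟩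
        show χ (⟨p x, dperp_le (hpw x hv.1)⟩ * ⟨_, h⟩) = ψ (p x) * ev y v
        rw [map_mul, he, hagree ⟨p x, dperp_le (hpw x hv.1)⟩ (hpw x hv.1)]
    obtain ⟨h, he⟩ := key _ hwlt
    rw [← he]
    exact (hker _).2 (Or.inr (hC.ev_eq end_pow.1 end_pow.2.1 end_pow.2.2))
  obtain ⟨J, hJ, hLJ, hyJ⟩ := extend hB.group (prim_M23 hB.group hB.m23) hB.m23 hL hcfg hyL hx'
  obtain ⟨k, hk, rfl⟩ := hiso.bij.surjOn hJ
  have hkl : ¬ Commute k l := fun h => hLJ ((hiso.comm _ hlw _ hk).2 h.symm)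
  have hkg : ∀ x < 9, (Commute (p x) k ↔ x ≠ 6) := fun x hx =>
    (hiso.comm _ (hpw x hx) _ hk).symm.trans (hyJ x hx)
  have hk9 : ∀ x < 10, x ≠ 7 → (Commute k (g x) ↔ x ≠ 0) := by
    intro x hx hx7
    obtain ⟨x', hx', hxe, h60⟩ : ∃ x' < 9, tn (Fi22Out.sigma x') = x ∧ (x' = 6 ↔ x = 0) := by
      interval_cases x
      exacts [⟨6, by decide⟩, ⟨5, by decide⟩, ⟨4, by decide⟩, ⟨3, by decide⟩, ⟨2, by decide⟩,
        ⟨1, by decide⟩, ⟨0, by decide⟩, absurd rfl hx7, ⟨7, by decide⟩, ⟨8, by decide⟩]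
    have h := hkg x' hx'
    rw [show p x' = g x from congrArg g hxe, Commute.symm_iff, ne_eq, h60] at h
    exact h
  refine ⟨φ, l, k, g, θ, hC, hk.1, hkl, fun x hx => ?_⟩
  rcases eq_or_ne x 7 with rfl | hx7
  swap
  · exact hk9 x hx hx7
  refine iff_of_true ?_ (by norm_num)
  -- the two ends commute, by the layer of `d` and `i`
  have hc := layer_checks
  simp only [inDI, Bool.and_eq_true] at hc
  obtain ⟨⟨⟨⟨⟨⟨c1, cu⟩, c5⟩, c6⟩, cw⟩, cv⟩, c7⟩ := hc
  have hpc := patt_checks
  simp only [Bool.and_eq_true] at hpc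
  have h39 : g 9 ∈ dperp D (g 3) := by
    refine ⟨(hC.mem 9).1, fun e => ?_, ?_⟩
    · exact hC.ev_ne (u := [9]) (v := [3]) rfl rfl hpc.2 (by rw [hg1, hg1]; exact e)
    · have := hC.commute_ev hpc.1.2
      rwa [hg1, hg1] at this
  obtain ⟨Y, _, _, E₀, ρ, hE₀, h22, hρ, -, -⟩ := layers_pair24 hD hB (hC.mem 3).1 h39
  have lt_of : ∀ {u : List Nat}, cmCheck [3] u = true → lt10 u = true := fun h => by
    simp only [cmCheck, Bool.and_eq_true] at h
    exact h.1.2
  have inS : ∀ {u : List Nat}, ev g u ∈ D → ((cmCheck [3] u = true ∧ neCheck ([3] ++ u.reverse) = true) ∧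
      cmCheck [9] u = true) ∧ neCheck ([9] ++ u.reverse) = true →
      ev g u ∈ dperp (dperp D (g 3)) (g 9) := fun {u} hu h => by
    refine ⟨⟨hu, fun e => ?_, ?_⟩, fun e => ?_, ?_⟩
    · exact hC.ev_ne (u := [3]) rfl (lt_of h.1.1.1) h.1.1.2 (by rw [hg1]; exact e.symm)
    · simpa [hg1] using hC.commute_ev h.1.1.1
    · exact hC.ev_ne (u := [9]) rfl (lt_of h.1.1.1) h.2 (by rw [hg1]; exact e.symm)
    · simpa [hg1] using hC.commute_ev h.1.2
  have hmem1 : ∀ x, ev g [x] ∈ D := fun x => by rw [hg1]; exact (hC.mem x).1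
  have hlS : l ∈ dperp (dperp D (g 3)) (g 9) :=
    ⟨⟨hl, (hC.mem 3).2.1.symm, (hC.mem 3).2.2.symm⟩, (hC.mem 9).2.1.symm, (hC.mem 9).2.2.symm⟩
  have hk3 : Commute k (g 3) := (hk9 3 (by norm_num) (by norm_num)).2 (by norm_num)
  have hk9' : Commute k (g 9) := (hk9 9 (by norm_num) (by norm_num)).2 (by norm_num)
  have hkS : k ∈ dperp (dperp D (g 3)) (g 9) :=
    ⟨⟨hk.1, fun e => hkl (e ▸ (hC.mem 3).2.2.symm), hk3.symm⟩,
      fun e => hkl (e ▸ (hC.mem 9).2.2.symm), hk9'.symm⟩
  have h1 : ev g [1] ∈ dperp (dperp D (g 3)) (g 9) := inS (hmem1 1) c1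
  have hu : ev g uW' ∈ dperp (dperp D (g 3)) (g 9) := inS (hC.word_mem hD [3, 2] 4).1 cu
  have h5 : ev g [5] ∈ dperp (dperp D (g 3)) (g 9) := inS (hmem1 5) c5
  have h6 : ev g [6] ∈ dperp (dperp D (g 3)) (g 9) := inS (hmem1 6) c6
  have hwS : w ∈ dperp (dperp D (g 3)) (g 9) := inS hwl.1 cw
  have hv : ev g vW' ∈ dperp (dperp D (g 3)) (g 9) :=
    inS (hC.word_mem hD [3, 2, 8, 3, 9, 8] 4).1 cv
  have h7 : ev g [7] ∈ dperp (dperp D (g 3)) (g 9) := inS (hmem1 7) c7
  have hkev : ∀ u : List ℕ, (∀ x ∈ u, x < 10 ∧ x ≠ 7 ∧ x ≠ 0) → Commute k (ev g u) := by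
    intro u
    induction u with
    | nil => exact fun _ => Commute.one_right k
    | cons x u ih =>
      intro hu'
      simp only [List.mem_cons, forall_eq_or_imp] at hu'
      rw [ev_cons]
      exact ((hk9 x hu'.1.1 hu'.1.2.1).2 hu'.1.2.2).mul_right (ih hu'.2)
  have pp : ∀ {u : G}, u ∈ dperp (dperp D (g 3)) (g 9) → Commute l u → Commute k u →
      ρ u ∈ pairPerp E₀ (ρ l) (ρ k) := fun hu' h1' h2' =>
    ⟨hρ.bij.mapsTo hu', (hρ.comm _ hlS _ hu').2 h1', (hρ.comm _ hkS _ hu').2 h2'⟩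
  have cl : ∀ u, Commute l (ev g u) := fun u =>
    (Subgroup.mem_centralizer_singleton_iff.1 (hC.ev_mem u)).symm
  have cm : ∀ {u v : G}, u ∈ dperp (dperp D (g 3)) (g 9) → v ∈ dperp (dperp D (g 3)) (g 9) →
      Commute u v → Commute (ρ u) (ρ v) := fun a b c => (hρ.comm _ a _ b).2 c
  have nm : ∀ {u v : G}, u ∈ dperp (dperp D (g 3)) (g 9) → v ∈ dperp (dperp D (g 3)) (g 9) →
      ¬ Commute u v → ¬ Commute (ρ u) (ρ v) := fun a b c h => c ((hρ.comm _ a _ b).1 h)
  obtain ⟨⟨⟨⟨⟨⟨⟨⟨⟨⟨⟨⟨⟨⟨⟨⟨⟨⟨⟨⟨⟨⟨⟨q1, q2⟩, q3⟩, q4⟩, q5⟩, q6⟩, q7⟩, q8⟩, q9⟩, q10⟩, q11⟩, q12⟩, q13⟩,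
    q14⟩, q15⟩, q16⟩, q17⟩, q18⟩, q19⟩, q20⟩, q21⟩, q22⟩, -⟩, -⟩ := hpc
  have hjS : ρ (ev g [7]) ∈ dperp E₀ (ρ l) := ⟨hρ.bij.mapsTo h7, fun e => (hC.mem 7).2.1
    (by rw [← hg1 7]; exact hρ.bij.injOn h7 hlS e), cm hlS h7 (cl _)⟩
  have := commute_ends hE₀ h22 (hρ.bij.mapsTo hlS) (hρ.bij.mapsTo hkS)
    (nm hlS hkS fun h => hkl h.symm)
    (pp h1 (cl _) (hkev _ (by decide))) (pp hu (cl _) (hkev _ (by decide)))
    (pp h5 (cl _) (hkev _ (by decide))) (pp h6 (cl _) (hkev _ (by decide)))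
    (pp hwS (cl _) hk.2.2.symm) (pp hv (cl _) (hkev _ (by decide))) hjS
    (nm h1 hu (hC.not_commute_ev q1)) (nm hu h5 (hC.not_commute_ev q2))
    (nm h5 h6 (hC.not_commute_ev q3)) (cm h1 h5 (hC.commute_ev q4)) (cm h1 h6 (hC.commute_ev q5))
    (cm hu h6 (hC.commute_ev q6)) (cm hwS h1 (hC.commute_ev q7)) (cm hwS hu (hC.commute_ev q8))
    (cm hwS h5 (hC.commute_ev q9)) (cm hwS h6 (hC.commute_ev q10))
    (fun e => hC.ev_ne (u := vW') (v := uW') (lt_of cv.1.1.1) (lt_of cu.1.1.1) q11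
      (hρ.bij.injOn hv hu e))
    (nm h1 hv (hC.not_commute_ev q12)) (cm hu hv (hC.commute_ev q13))
    (nm h5 hv (hC.not_commute_ev q14)) (cm h6 hv (hC.commute_ev q15)) (cm hwS hv (hC.commute_ev q16))
    (cm h1 h7 (hC.commute_ev q17)) (cm hu h7 (hC.commute_ev q18)) (cm h5 h7 (hC.commute_ev q19))
    (nm h6 h7 (hC.not_commute_ev q20)) (nm hwS h7 (hC.not_commute_ev q21))
    (cm hv h7 (hC.commute_ev q22))
  have h := (hρ.comm _ hkS _ h7).1 this
  rwa [hg1] at h

end

/-! ### from Cfsg.Agent.ThreeTrans.Y542.Relator -/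

section

open Cfsg.Agent.ThreeTrans.Y542

open Y332 (ev ev_append ev_cons ev_nil pw ev_pw)

variable {G : Type u} [Group G] [Finite G] {D : Set G}

/-- The seventeenth power of the product. -/
theorem rel17 (hD : IsThreeTranspositionGroup D) (hprim : IsPrimitiveUnderConj D)
    (h24 : L24 G D) {φ : G →* ℤˣ} {l k : G} {g : ℕ → G}
    {θ : ↥(Subgroup.centralizer ({l} : Set G)) →* F23} (hC : IsChart D φ l g θ) (hk : k ∈ D)
    (hkl : ¬ Commute k l) (hkg : ∀ x < 10, (Commute k (g x) ↔ x ≠ 0)) :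
    (ev g qW * k * l) ^ 17 = 1 := by
  have hZ : Subgroup.center G = ⊥ := h24.1
  obtain ⟨X, _, _, E, hB⟩ := exists_base24 hD hprim h24
  have hkev : ∀ u : List ℕ, (∀ x ∈ u, 0 < x ∧ x < 10) → Commute k (ev g u) := by
    intro u
    induction u with
    | nil => exact fun _ => Commute.one_right k
    | cons x u ih =>
      intro hu
      simp only [List.mem_cons, forall_eq_or_imp] at hu
      rw [ev_cons]
      exact ((hkg x hu.1.2).2 (by omega)).mul_right (ih hu.2)
  have hmem : ∀ {x : Nat} {v : List Nat}, isPal x v = true → ev g v ∈ dperp D l := fun {x v} h => by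
    rw [of_decide_eq_true h]
    exact hC.word_mem hD _ _
  have hp := pals
  simp only [Bool.and_eq_true, List.all_eq_true] at hp
  obtain ⟨⟨⟨⟨pt, pu⟩, pm⟩, -⟩, pn⟩ := hp
  have ht := t_checks
  simp only [Bool.and_eq_true, decide_eq_true_eq, List.all_eq_true] at ht
  obtain ⟨⟨⟨⟨⟨⟨⟨⟨⟨ctu, ntu⟩, etu⟩, em⟩, cmq⟩, ltu⟩, ltm⟩, qtu⟩, qm⟩, hR⟩ := ht
  have hcu := ctu
  simp only [cmCheck, Bool.and_eq_true] at hcu
  -- the member `t` of a second class
  have hkt : Commute k (ev g tW) := by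
    refine commute_of_fixed_pair hD.1 hk (hmem pt).1 (hmem pu).1 (hC.ev_ne hcu.1.1 hcu.1.2 ntu)
      (hC.commute_ev ctu) ?_
    rw [← ev_append, hC.ev_eq etu ltu qtu]
    exact hkev _ fun x hx => hR x (by simp [hx])
  set m := ev g mW with hm
  have hkm : Commute k m := by
    rw [hm, ← hC.ev_eq em ltm qm, ev_append, ev_append]
    exact ((hkev _ fun x hx => hR x (by simp [List.mem_reverse.1 hx])).mul_right hkt).mul_right
      (hkev _ fun x hx => hR x (by simp [hx]))
  have hml : m ∈ dperp D l := hmem pm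
  have hlm : l ∈ dperp D m := dperp_symm hC.hl hml
  have hkM : k ∈ dperp D m := ⟨hk, fun e => hkl (e ▸ hml.2.2.symm), hkm.symm⟩
  obtain ⟨χ, ψ, -, hker, hagree, hiso⟩ := (cover24 hD hZ hB hml.1).maps
  -- nine members commuting with `l` and `m`
  set n : ℕ → G := fun x => ev g (nW x) with hn
  have hnm : ∀ x < 9, n x ∈ dperp D m ∧ (Commute k (n x) ↔ x ≠ 6) := by
    intro x hx
    have h := List.all_eq_true.1 n_checks x (List.mem_range.2 hx)
    simp only [Bool.and_eq_true, decide_eq_true_eq, List.all_eq_true] at h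
    obtain ⟨⟨⟨⟨⟨he, hlt⟩, hq⟩, hR'⟩, hc⟩, hne⟩ := h
    have hc' := hc
    simp only [cmCheck, Bool.and_eq_true] at hc'
    refine ⟨⟨(hmem (pn x (List.mem_range.2 hx))).1,
      fun e => hC.ev_ne hc'.1.1 hc'.1.2 hne e.symm, hC.commute_ev hc⟩, ?_⟩
    have hcU : Commute k (ev g (nC x)) := hkev _ fun y hy => hR' y (by simp [hy])
    have hcU' : Commute k (ev g (nC x).reverse) := hkev _ fun y hy => hR' y (by
      simp [List.mem_reverse.1 hy])
    show Commute k (ev g (nW x)) ↔ x ≠ 6
    rw [← hC.ev_eq he hlt hq, ev_append, ev_append]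
    by_cases h6 : x = 6
    · refine iff_of_false (fun hc2 => ?_) (fun h' => h' h6)
      have h3 := (hcU'.inv_right.mul_right hc2).mul_right hcU.inv_right
      simp only [inv_mul_cancel_left, mul_assoc, mul_inv_cancel, mul_one] at h3
      rw [nU, if_pos h6] at h3
      exact (hkg 0 (by norm_num)).1 (by simpa using h3) rfl
    · refine iff_of_true ?_ h6
      rw [nU, if_neg h6]
      exact (hcU'.mul_right hkt).mul_right hcU
  set N : ℕ → X := fun x => ψ (n x) with hN
  have hcfg : Y332.Cfg E N := by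
    refine ⟨fun x hx => hiso.bij.mapsTo (hnm x hx).1, fun x hx y hy => ?_⟩
    rw [hN, hiso.comm _ (hnm x hx).1 _ (hnm y hy).1]
    have h := List.all_eq_true.1 (List.all_eq_true.1 nadj_checks x (List.mem_range.2 hx)) y
      (List.mem_range.2 hy)
    split_ifs at h with hadj
    · exact iff_of_false (hC.not_commute_ev h) (by simp [hadj])
    · exact iff_of_true (hC.commute_ev h) (by simpa using hadj)
  have hNL : ∀ x < 9, N x ∈ dperp E (ψ l) := fun x hx =>
    ⟨hiso.bij.mapsTo (hnm x hx).1,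
      fun e => (hmem (pn x (List.mem_range.2 hx))).2.1 (hiso.bij.injOn (hnm x hx).1 hlm e),
      (hiso.comm _ hlm _ (hnm x hx).1).2 (hmem (pn x (List.mem_range.2 hx))).2.2⟩
  obtain ⟨e, he⟩ := Y342.iso_of_cfg hB.group (prim_M23 hB.group hB.m23) hB.m23
    (hiso.bij.mapsTo hlm) (hiso.bij.mapsTo hkM)
    (fun h => hkl ((hiso.comm _ hlm _ hkM).1 h).symm) hcfg hNL fun x hx => by
      rw [hN, hiso.comm _ (hnm x hx).1 _ hkM, Commute.symm_iff]
      exact (hnm x hx).2
  have hen : ∀ x < 9, e (gw [tn x]) = N x := by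
    intro x hx
    have hd : gw [tn x] = PresentedGroup.of (CosetCert.Fi23Index31671.dec (tn x)).1 := by
      interval_cases x <;> rfl
    rw [hd, he, tn_gen23 x hx, if_neg (by omega)]
  have hek : e (gw [7]) = ψ k := by
    rw [show gw [7] = PresentedGroup.of Spor.Fi23.Gen.j from rfl, he]
    rfl
  -- elements of the centraliser of `m`
  have key : ∀ v : List ℕ, (∀ x ∈ v, x < 9) → ∃ h : ev g (v.flatMap nW) ∈
      Subgroup.centralizer ({m} : Set G), χ ⟨_, h⟩ = e (gw (v.map tn)) := by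
    intro v
    induction v with
    | nil => exact fun _ => ⟨one_mem _, by rw [List.map_nil, gw_nil, map_one]; exact map_one χ⟩
    | cons x v ih =>
      intro hv
      simp only [List.mem_cons, forall_eq_or_imp] at hv
      obtain ⟨h, hh⟩ := ih hv.2
      have hx := (hnm x hv.1).1
      refine ⟨by rw [List.flatMap_cons, ev_append]; exact mul_mem (dperp_le hx) h, ?_⟩
      rw [List.map_cons, gw_cons, map_mul, hen x hv.1, ← hh, hN]
      simp only [hagree ⟨n x, dperp_le hx⟩ hx, ← map_mul]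
      congr 1
      ext
      simp [hn]
  have hv := v_checks
  simp only [Bool.and_eq_true, decide_eq_true_eq, List.all_eq_true] at hv
  obtain ⟨⟨⟨ev1, ev2⟩, ev3⟩, ev4⟩ := hv
  obtain ⟨hq, hqχ⟩ := key vW ev4
  obtain ⟨hl', hlχ⟩ := key (pw Y332.wx 9) (by decide)
  have hlev : ev g ((pw Y332.wx 9).flatMap nW) = l := by
    refine hC.ext (hC.ev_mem _) (Subgroup.mem_centralizer_singleton_iff.2 rfl) ?_ ?_
    · have hlt : lt10 ((pw Y332.wx 9).flatMap nW) = true := by
        have := l_check.1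
        simp only [idCheck, Bool.and_eq_true] at this
        exact this.1
      rw [hC.theta_ev (lt10_spec hlt), gw_eq_one l_check.1]
      exact ((hC.ker _).2 (Or.inr rfl)).symm
    · rw [hC.sign_ev, hC.sgn l hC.hl, Int.units_pow_eq_pow_mod_two, l_check.2, pow_one]
  set Q : ↥(Subgroup.centralizer ({m} : Set G)) :=
    ⟨_, hq⟩ * ⟨k, dperp_le hkM⟩ * ⟨_, hl'⟩ with hQ
  have hQv : (Q : G) = ev g qW * k * l := by
    rw [hQ, Subgroup.coe_mul, Subgroup.coe_mul]
    simp only [hlev, hC.ev_eq ev1 ev2 ev3]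
  have hzw : (pw Y332.wx 9).map tn = Fi23Centralizer.zWord := by decide +kernel
  have hQχ : χ Q = e (gw (vW.map tn ++ 7 :: Fi23Centralizer.zWord)) := by
    rw [hQ, map_mul, map_mul, hqχ, hlχ, ← hagree ⟨k, dperp_le hkM⟩ hkM, ← hek, hzw, ← map_mul,
      ← map_mul, gw_append, gw_cons 7 Fi23Centralizer.zWord, mul_assoc]
  have hQ17 : χ (Q ^ 17) = 1 := by
    rw [map_pow, hQχ, ← map_pow]
    rw [show gw (vW.map tn ++ 7 :: Fi23Centralizer.zWord) ^ 17 =
      gw (List.replicate 17 (vW.map tn ++ 7 :: Fi23Centralizer.zWord)).flatten from ?_,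
      gw_eq_one final_check, map_one]
    generalize vW.map tn ++ 7 :: Fi23Centralizer.zWord = v
    generalize 17 = i
    induction i with
    | zero => simp [gw_nil]
    | succ i ih => rw [pow_succ', ih, List.replicate_succ, List.flatten_cons, gw_append]
  rw [← hQv, ← SubmonoidClass.coe_pow]
  refine ((hker _).1 hQ17).resolve_right fun h => ?_
  have h1 := congrArg φ h
  rw [SubmonoidClass.coe_pow, hQv, map_pow, map_mul, map_mul, hC.sign_ev, hC.sgn k hk,
    hC.sgn l hC.hl, hC.sgn m hml.1, Int.units_pow_eq_pow_mod_two] at h1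
  revert h1
  decide +kernel

end

/-! ### from Cfsg.Agent.ThreeTrans.Y542.Iso -/

section

open Cfsg.Agent.ThreeTrans.Y542

open Cfsg.Spor Cfsg.Spor.Fi24

open Y332 (ev ev_append ev_cons ev_nil pw ev_pw)

variable {G : Type u} [Group G] [Finite G] {D : Set G}

/-- Every group of type M(24) is isomorphic to the presented Fi₂₄, the generators going to members. -/
theorem exists_iso (hD : IsThreeTranspositionGroup D) (hprim : IsPrimitiveUnderConj D)
    (h24 : L24 G D) : ∃ e : Spor.Fi24 ≃* G, ∀ x : Gen, e (PresentedGroup.of x) ∈ D := by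
  obtain ⟨φ, l, k, g, θ, hC, hk, hkl, hkg⟩ := exists_cfg24 hD hprim h24
  have hg1 : ∀ x, ev g [x] = g x := fun x => by simp
  set F : ℕ → G := fun x => if x = 10 then k else if x = 11 then l else g x with hF
  have hF10 : ∀ x < 10, F x = g x := fun x hx => by
    simp only [hF, if_neg (by omega : x ≠ 10), if_neg (by omega : x ≠ 11)]
  have hFk : F 10 = k := rfl
  have hFl : F 11 = l := rfl
  have hFD : ∀ x, F x ∈ D := fun x => by
    simp only [hF]; split_ifs
    exacts [hk, hC.hl, (hC.mem x).1]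
  have hc12 : ∀ x < 12, ∀ y < 12, (Commute (F x) (F y) ↔ adj12 x y = false) := by
    suffices key : ∀ x < 12, ∀ y < 12, y ≤ x → (Commute (F x) (F y) ↔ adj12 x y = false) by
      intro x hx y hy
      rcases le_total y x with h | h
      · exact key x hx y hy h
      · rw [Commute.symm_iff, adj12_symm x hx y hy]
        exact key y hy x hx h
    intro x hx y hy hyx
    rcases lt_or_ge x 10 with hx10 | hx10
    · rw [hF10 x hx10, hF10 y (by omega)]
      have h := List.all_eq_true.1 (List.all_eq_true.1 adj12_checks x (List.mem_range.2 hx10)) y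
        (List.mem_range.2 (by omega : y < 10))
      split_ifs at h with hadj
      · refine iff_of_false ?_ (by simp [hadj])
        simpa [hg1] using hC.not_commute_ev h
      · refine iff_of_true ?_ (by simpa using hadj)
        simpa [hg1] using hC.commute_ev h
    interval_cases x
    · rw [hFk]
      rcases lt_or_ge y 10 with hy10 | hy10
      · rw [hF10 y hy10, k_adj y hy10, hkg y hy10]
        simp
      · obtain rfl : y = 10 := by omega
        exact iff_of_true (hFk ▸ Commute.refl k) rfl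
    · rw [hFl]
      rcases lt_or_ge y 10 with hy10 | hy10
      · rw [hF10 y hy10]
        exact iff_of_true (hC.mem y).2.2 (l_adj y hy10)
      · interval_cases y
        · exact iff_of_false (fun h => hkl h.symm) (by decide)
        · exact iff_of_true (hFl ▸ Commute.refl l) rfl
  -- the path `i h d c b a k l`
  set P : ℕ → G := fun s => F (pn s) with hP
  have hpn : ∀ s < 8, pn s < 12 := by decide
  have hr : Path.Rels P := ⟨fun s _ => mul_self hD.1 (hFD _),
    fun s hs t ht h => braid hD.1 (hFD _) (hFD _) fun hc => by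
      rw [hc12 _ (hpn s hs) _ (hpn t ht), ← path_adj s hs t ht, h] at hc
      simp at hc,
    fun s hs t ht h => (hc12 _ (hpn s hs) _ (hpn t ht)).2 (by rw [← path_adj s hs t ht, h])⟩
  set Γ := Path.ev P Path.wg
  have hΓ : ∀ s < 8, Γ * P s * Γ⁻¹ = P (7 - s) := fun s hs => by
    rw [Path.wg_conj hr hs, mul_inv_cancel_right]
  have hfix : ∀ x, x = 5 ∨ x = 6 ∨ x = 7 → Γ * g x * Γ⁻¹ = g x := by
    intro x hx
    have hcw : ∀ v : List ℕ, (∀ s ∈ v, s < 8) → Commute (Path.ev P v) (g x) := by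
      intro v
      induction v with
      | nil => exact fun _ => Commute.one_left _
      | cons s v ih =>
        intro hv
        simp only [List.mem_cons, forall_eq_or_imp] at hv
        rw [Path.ev_cons]
        refine Commute.mul_left ?_ (ih hv.2)
        rw [hP, ← hF10 x (by omega)]
        obtain ⟨h5, h6, h7⟩ := path_far s hv.1
        refine (hc12 _ (hpn s hv.1) x (by omega)).2 ?_
        rcases hx with rfl | rfl | rfl <;> assumption
    rw [(hcw _ Path.wg_lt).eq, mul_inv_cancel_right]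
  -- the image of `e`
  set β := Γ * g 4 * Γ⁻¹ with hβ
  have hβD : β ∈ D := hD.2.1 _ _ (hC.mem 4).1
  have himg : ∀ x < 10, ∀ y < 12, Γ * F y * Γ⁻¹ = g x →
      (Commute (g x) β ↔ adj12 y 4 = false) := by
    intro x _ y hy h
    rw [← h, hβ, Commute.conj_iff, ← hF10 4 (by norm_num)]
    exact hc12 y hy 4 (by norm_num)
  have hl0 : Γ * g 9 * Γ⁻¹ = l := by
    have := hΓ 0 (by norm_num)
    simpa [hP, pn, hF] using this
  have hβl : β ∈ dperp D l := by
    refine ⟨hβD, fun e => ?_, ?_⟩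
    · rw [← hl0, hβ] at e
      have h := mul_left_cancel (mul_right_cancel e)
      refine hC.ev_ne (u := [4]) (v := [9]) rfl rfl (by decide +kernel) (by rw [hg1, hg1]; exact h)
    · rw [← hl0, hβ, Commute.conj_iff, ← hF10 4 (by norm_num), ← hF10 9 (by norm_num)]
      exact (hc12 9 (by norm_num) 4 (by norm_num)).2 rfl
  have hβev : β = ev g bW := by
    obtain ⟨b1, b2, b3, b4, b5⟩ := b_checks
    have hbm : ev g bW ∈ dperp D l := by
      rw [of_decide_eq_true b4]
      exact hC.word_mem hD _ _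
    refine hC.ext (dperp_le hβl) (dperp_le hbm) ?_ ?_
    swap
    · rw [hC.sgn _ hβD, hC.sign_ev, Int.units_pow_eq_pow_mod_two, b5, pow_one]
    refine eq_of_pattern b1 (hC.conj _ hβl _) (hC.conj _ hbm _) (fun p hp => ?_) fun p hp => ?_
    · have hp10 : p.1 < 10 := by revert p; decide
      have hiff : Commute (g p.1) β ↔ p.2 = true := by
        simp only [bPat, List.mem_cons, List.not_mem_nil, or_false] at hp
        rcases hp with rfl | rfl | rfl | rfl | rfl | rfl | rfl | rfl | rfl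
        · rw [himg 0 (by norm_num) 3 (by norm_num) (by simpa [hP, pn, hF] using hΓ 2 (by norm_num))]
          decide
        · rw [himg 5 (by norm_num) 5 (by norm_num) (by rw [hF10 5 (by norm_num)]; exact hfix 5 (by simp))]
          decide
        · rw [himg 1 (by norm_num) 2 (by norm_num) (by simpa [hP, pn, hF] using hΓ 3 (by norm_num))]
          decide
        · rw [himg 2 (by norm_num) 1 (by norm_num) (by simpa [hP, pn, hF] using hΓ 4 (by norm_num))]
          decide
        · rw [himg 3 (by norm_num) 0 (by norm_num) (by simpa [hP, pn, hF] using hΓ 5 (by norm_num))]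
          decide
        · rw [himg 8 (by norm_num) 10 (by norm_num) (by simpa [hP, pn, hF] using hΓ 6 (by norm_num))]
          decide
        · rw [himg 9 (by norm_num) 11 (by norm_num) (by simpa [hP, pn, hF] using hΓ 7 (by norm_num))]
          decide
        · rw [himg 6 (by norm_num) 6 (by norm_num) (by rw [hF10 6 (by norm_num)]; exact hfix 6 (by simp))]
          decide
        · rw [himg 7 (by norm_num) 7 (by norm_num) (by rw [hF10 7 (by norm_num)]; exact hfix 7 (by simp))]
          decide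
      rw [← hC.img p.1 hp10 (dperp_le (hC.mem p.1)), ← hiff]
      exact ⟨hC.commute_of_theta _ _, hC.theta_commute _ _⟩
    · have h := List.all_eq_true.1 b2 p hp
      rw [hC.theta_ev (lt10_spec b3)]
      cases hb : p.2
      · rw [hb] at h
        exact iff_of_false (not_commute_of h) Bool.false_ne_true
      · rw [hb] at h
        exact iff_of_true (commute_of h) rfl
  have h17 := rel17 hD hprim h24 hC hk hkl hkg
  -- the homomorphism
  set f : Gen → G := fun x => F (num x) with hf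
  have hnum : ∀ x, num x < 12 := fun x => by cases x <;> decide
  have hinjn : ∀ x y, num x = num y → x = y := fun x y => by cases x <;> cases y <;> simp [num]
  have hrel : ∀ r ∈ coxRelators edges ∪ {r | r ∈ extra}, FreeGroup.lift f r = 1 := by
    rintro r (⟨x, -, y, -, rfl⟩ | hr')
    · rw [map_pow, map_mul, FreeGroup.lift_apply_of, FreeGroup.lift_apply_of, label_eq]
      split_ifs with hxy hadj
      · subst hxy
        rw [pow_one]
        exact mul_self hD.1 (hFD _)
      · refine cube_of_not_commute hD.1 (hFD _) (hFD _) fun h => ?_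
        rw [(hc12 _ (hnum x) _ (hnum y)).1 h] at hadj
        simp at hadj
      · have h : Commute (f x) (f y) := (hc12 _ (hnum x) _ (hnum y)).2 (by simpa using hadj)
        rw [h.mul_pow, pow_two, pow_two, mul_self hD.1 (hFD _), one_mul, mul_self hD.1 (hFD _)]
    · simp only [extra, List.mem_cons, List.not_mem_nil, or_false, Set.mem_ofPred_eq] at hr'
      rcases hr' with rfl | rfl
      · simp only [map_pow, map_mul, map_inv, FreeGroup.lift_apply_of, hf, num, hF,
          if_true, (by decide : (11 : ℕ) ≠ 10), (by decide : (0 : ℕ) ≠ 10), (by decide : (1 : ℕ) ≠ 10),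
          (by decide : (2 : ℕ) ≠ 10), (by decide : (3 : ℕ) ≠ 10), (by decide : (4 : ℕ) ≠ 10),
          (by decide : (5 : ℕ) ≠ 10), (by decide : (8 : ℕ) ≠ 10), (by decide : (0 : ℕ) ≠ 11),
          (by decide : (1 : ℕ) ≠ 11), (by decide : (2 : ℕ) ≠ 11), (by decide : (3 : ℕ) ≠ 11),
          (by decide : (4 : ℕ) ≠ 11), (by decide : (5 : ℕ) ≠ 11), (by decide : (8 : ℕ) ≠ 11), if_false]
        rw [mul_inv_eq_one,
          show g 0 * g 1 * g 2 * g 3 * g 4 * g 5 * g 8 = ev g [0, 1, 2, 3, 4, 5, 8] from by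
            simp [mul_assoc], ← ev_pw]
        refine hC.ext (Subgroup.mem_centralizer_singleton_iff.2 rfl) (hC.ev_mem _) ?_ ?_
        · rw [hC.theta_ev (by decide), gw_eq_one extra1_check]
          exact (hC.ker _).2 (Or.inr rfl)
        · rw [hC.sign_ev, hC.sgn l hC.hl, Int.units_pow_eq_pow_mod_two]
          simp [pw]
      · simp only [map_pow, map_mul, FreeGroup.lift_apply_of, hf, num]
        refine (MulAut.conj Γ).injective ?_
        have q : ∀ s < 8, MulAut.conj Γ (F (pn s)) = F (pn (7 - s)) := fun s hs => hΓ s hs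
        have q5 : ∀ x, x = 5 ∨ x = 6 ∨ x = 7 → MulAut.conj Γ (F x) = g x := fun x hx => by
          rw [hF10 x (by omega)]; exact hfix x hx
        have q4 : MulAut.conj Γ (F 4) = ev g bW := by
          rw [hF10 4 (by norm_num), MulAut.conj_apply, ← hβev]
        have i3 : MulAut.conj Γ (F 3) = g 0 := (q 2 (by norm_num)).trans (hF10 0 (by norm_num))
        have i2 : MulAut.conj Γ (F 2) = g 1 := (q 3 (by norm_num)).trans (hF10 1 (by norm_num))
        have i1 : MulAut.conj Γ (F 1) = g 2 := (q 4 (by norm_num)).trans (hF10 2 (by norm_num))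
        have i0 : MulAut.conj Γ (F 0) = g 3 := (q 5 (by norm_num)).trans (hF10 3 (by norm_num))
        have i10 : MulAut.conj Γ (F 10) = g 8 := (q 6 (by norm_num)).trans (hF10 8 (by norm_num))
        have i11 : MulAut.conj Γ (F 11) = g 9 := (q 7 (by norm_num)).trans (hF10 9 (by norm_num))
        have i8 : MulAut.conj Γ (F 8) = k := q 1 (by norm_num)
        have i9 : MulAut.conj Γ (F 9) = l := q 0 (by norm_num)
        simp only [map_pow, map_mul, map_one, i3, i2, i1, i0, i10, i11, i8, i9, q4,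
          q5 5 (by simp), q5 6 (by simp), q5 7 (by simp)]
        refine Eq.trans ?_ h17
        congr 1
        simp [qW, ev_append, mul_assoc]
  set Φ := PresentedGroup.toGroup hrel
  have hΦ : ∀ x, Φ (PresentedGroup.of x) = f x := fun x => PresentedGroup.toGroup.of hrel
  -- surjective, by primitivity
  set R := Φ.range
  have hFR : ∀ x < 12, F x ∈ R := by
    intro x hx
    obtain ⟨y, rfl⟩ : ∃ y, num y = x := by
      interval_cases x
      exacts [⟨.a, rfl⟩, ⟨.b, rfl⟩, ⟨.c, rfl⟩, ⟨.d, rfl⟩, ⟨.e, rfl⟩, ⟨.f, rfl⟩, ⟨.g, rfl⟩,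
        ⟨.j, rfl⟩, ⟨.h, rfl⟩, ⟨.i, rfl⟩, ⟨.k, rfl⟩, ⟨.l, rfl⟩]
    exact ⟨PresentedGroup.of y, hΦ y⟩
  have hlR : l ∈ R := hFR 11 (by norm_num)
  have hCR : ∀ c ∈ Subgroup.centralizer ({l} : Set G), c ∈ R := by
    intro c hc
    obtain ⟨v, hv, hvw⟩ : ∃ v : List Nat, (∀ x ∈ v, x < 10) ∧ gw v = θ ⟨c, hc⟩ := by
      generalize θ ⟨c, hc⟩ = u
      induction u using PresentedGroup.induction_on with
      | _ z =>
        induction z using FreeGroup.induction_on with
        | C1 => exact ⟨[], by simp, gw_nil.trans (map_one _).symm⟩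
        | of y =>
          refine ⟨[CosetCert.Fi23Index31671.enc y], by cases y <;> simp [CosetCert.Fi23Index31671.enc], ?_⟩
          cases y <;> rfl
        | inv_of y ih =>
          obtain ⟨v, hv, h⟩ := ih
          exact ⟨v.reverse, by simpa using hv, by rw [gw_reverse hv, h, map_inv]⟩
        | mul y z iy iz =>
          obtain ⟨v, hv, h⟩ := iy
          obtain ⟨v', hv', h'⟩ := iz
          exact ⟨v ++ v', fun x hx => (List.mem_append.1 hx).elim (hv x) (hv' x),
            by rw [gw_append, h, h', map_mul]⟩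
    have hev : ev g v ∈ R := by
      clear hvw
      induction v with
      | nil => exact one_mem _
      | cons x v ih =>
        simp only [List.mem_cons, forall_eq_or_imp] at hv
        rw [ev_cons, ← hF10 x hv.1]
        exact mul_mem (hFR x (by omega)) (ih hv.2)
    have h1 : θ (⟨c, hc⟩ * ⟨ev g v, hC.ev_mem v⟩⁻¹) = 1 := by
      rw [map_mul, map_inv, hC.theta_ev hv, hvw, mul_inv_cancel]
    have hc' : c = c * (ev g v)⁻¹ * ev g v := by rw [inv_mul_cancel_right]
    rw [hc']
    refine mul_mem ?_ hev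
    rcases (hC.ker _).1 h1 with e | e <;> simp only [Subgroup.coe_mul, Subgroup.coe_inv] at e <;>
      rw [e]
    exacts [one_mem _, hlR]
  have hR : R = ⊤ := by
    set B : Set G := {x | ∃ r ∈ R, r * l * r⁻¹ = x}
    have hBD : B ⊆ D := by rintro x ⟨r, -, rfl⟩; exact hD.2.1 _ _ hC.hl
    have hcl : ∀ a : G, a * l * a⁻¹ = l → a ∈ R := fun a ha => hCR a
      (Subgroup.mem_centralizer_singleton_iff.2 (mul_inv_eq_iff_eq_mul.1 ha))
    have hblock : ∀ a : G, (fun x => a * x * a⁻¹) '' B = B ∨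
        Disjoint ((fun x => a * x * a⁻¹) '' B) B := by
      intro a
      by_cases ha : a ∈ R
      · left
        ext x
        constructor
        · rintro ⟨-, ⟨r, hr', rfl⟩, rfl⟩
          exact ⟨a * r, mul_mem ha hr', by group⟩
        · rintro ⟨r, hr', rfl⟩
          exact ⟨_, ⟨a⁻¹ * r, mul_mem (inv_mem ha) hr', rfl⟩, by group⟩
      · right
        rw [Set.disjoint_left]
        rintro x ⟨-, ⟨r, hr', rfl⟩, rfl⟩ ⟨r', hr'', h⟩
        refine ha ?_
        have h' : a * r * l * (a * r)⁻¹ = r' * l * r'⁻¹ := by rw [h]; group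
        have h2 : (r'⁻¹ * (a * r)) * l * (r'⁻¹ * (a * r))⁻¹ = l := by
          calc _ = r'⁻¹ * (a * r * l * (a * r)⁻¹) * r' := by group
            _ = l := by rw [h']; group
        have h3 := mul_mem (mul_mem hr'' (hcl _ h2)) (inv_mem hr')
        simpa using h3
    have hBeq : B = D := by
      refine (hprim.2.2 B hBD hblock).resolve_left fun hs => ?_
      have h1 : l ∈ B := ⟨1, one_mem _, by simp⟩
      have h2 : k * l * k⁻¹ ∈ B := ⟨k, hFR 10 (by norm_num), rfl⟩
      exact hkl (mul_inv_eq_iff_eq_mul.1 (hs h2 h1))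
    rw [eq_top_iff]
    intro a _
    obtain ⟨r, hr', h⟩ : a * l * a⁻¹ ∈ B := hBeq ▸ hD.2.1 a l hC.hl
    have h2 : (r⁻¹ * a) * l * (r⁻¹ * a)⁻¹ = l := by
      calc _ = r⁻¹ * (a * l * a⁻¹) * r := by group
        _ = l := by rw [← h]; group
    have := mul_mem hr' (hcl _ h2)
    simpa using this
  -- injective
  have hinj : Function.Injective Φ := by
    rw [← MonoidHom.ker_eq_bot_iff]
    by_contra hne
    have h2 : Φ.ker.index ≤ 2 := Fi24.index_le_two Φ.normal_ker hne
    rw [Subgroup.index_ker, show Φ.range = ⊤ from hR,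
      Nat.card_congr Subgroup.topEquiv.toEquiv] at h2
    have h3 : ({1, l, k} : Set G).ncard = 3 := Set.ncard_eq_three.2 ⟨1, l, k,
      (ne_one hD.1 hC.hl).symm, (ne_one hD.1 hk).symm, fun e => hkl (e ▸ Commute.refl l), rfl⟩
    have h4 := Set.ncard_le_ncard (Set.subset_univ ({1, l, k} : Set G)) (Set.toFinite _)
    rw [h3, Set.ncard_univ] at h4
    omega
  exact ⟨MulEquiv.ofBijective Φ ⟨hinj, MonoidHom.range_eq_top.1 hR⟩, fun x => by
    show Φ (PresentedGroup.of x) ∈ D
    rw [hΦ]; exact hFD _⟩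

end

end Cfsg.Agent.ThreeTrans.Steps.L24
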