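import Cfsg.Agent.ThreeTrans.Steps.Common
import Cfsg.Agent.ThreeTrans.Steps.L24
import Cfsg.Agent.FischerTypes.M24
import Cfsg.Agent.M24Cent.Transfer24

/-!
# From type M(23) to type M(24)
-/

set_option autoImplicit false

open Cfsg

namespace Cfsg.Agent.ThreeTrans.Steps

variable {G : Type*} [Group G] [Finite G] {D : Set G}

/-- The step from M(23) to M(24). -/
theorem m24_step (hD : IsThreeTranspositionGroup D) (hprim : IsPrimitiveUnderConj D)
    (hZ : Subgroup.center G = ⊥) {d : G} (hd : d ∈ D)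
    (h : IsOfTypeM23 (↥(Subgroup.closure {y : G | y ∈ D ∧ y ≠ d ∧ Commute d y}) ⧸
        Subgroup.center ↥(Subgroup.closure {y : G | y ∈ D ∧ y ≠ d ∧ Commute d y}))
      ((QuotientGroup.mk : ↥(Subgroup.closure {y : G | y ∈ D ∧ y ≠ d ∧ Commute d y}) → _) ''
        {x : ↥(Subgroup.closure {y : G | y ∈ D ∧ y ≠ d ∧ Commute d y}) |
          (x : G) ∈ {y : G | y ∈ D ∧ y ≠ d ∧ Commute d y}})) :
    IsOfTypeM24 G D := by
  obtain ⟨hcls, -, c, hc, hdc⟩ := class_and_moved hD hprim hd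
  have h24 : L24.L24 G D := ⟨hZ, d, hd, c, hc, hdc, h, trivial⟩
  obtain ⟨f, hf⟩ := L24.exists_iso hD hprim h24
  have h' := M24Cent.m24_transfer f FischerTypes.F24.isM24
  have he : f '' Fi24.D = D :=
    image_class f hcls (b := Fi24.L) mem_conjugatesOf_self (hf Cfsg.Spor.Fi24.Gen.l)
  rw [he] at h'
  exact h'

end Cfsg.Agent.ThreeTrans.Steps
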