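import Cfsg.Agent.ThreeTrans.Primitive
import Cfsg.Agent.FischerTypes.Prim

/-!
# Carrying a model with its class to a group
-/

set_option autoImplicit false

open Cfsg

namespace Cfsg.Agent.ThreeTrans.Steps

/-- An isomorphism sending one member to a member carries the class onto the class. -/
theorem image_class {G₀ G : Type*} [Group G₀] [Group G] (e : G₀ ≃* G) {D : Set G}
    (hcls : IsThreeTranspositionClass D) {a b : G₀} (hb : b ∈ conjugatesOf a) (h : e b ∈ D) :
    e '' conjugatesOf a = D := by
  obtain ⟨x, -, hx⟩ := hcls.2.1
  rw [FischerTypes.class_of_map e a, hx]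
  rw [hx] at h
  have hab : IsConj (e a) (e b) := e.toMonoidHom.map_isConj hb
  have hxa : IsConj x (e a) := (show IsConj x (e b) from h).trans hab.symm
  ext y
  exact ⟨fun hy => hxa.trans hy, fun hy => hxa.symm.trans hy⟩

variable {G : Type*} [Group G] [Finite G] {D : Set G}

/-- The class is one class also after removing the identity, and some member is moved by `d`. -/
theorem class_and_moved (hD : IsThreeTranspositionGroup D) (hprim : IsPrimitiveUnderConj D) {d : G}
    (hd : d ∈ D) :
    IsThreeTranspositionClass D ∧ IsThreeTranspositionClass (D \ {1}) ∧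
      ∃ c ∈ D, ¬ Commute d c := by
  have hcls := class_of_primitive hD hprim
  refine ⟨hcls, ?_, exists_not_commute hcls hprim.2.1 hd⟩
  rwa [Set.sdiff_singleton_eq_self fun h1 => ne_one hD.1 h1 rfl]

end Cfsg.Agent.ThreeTrans.Steps
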